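import Mathlib

/-!
# Eigenvalues with large multiplicities (helper251, S5927)

* `comb` : a Frobenius stable family of 27 elements with sum 0, all multiplicities at least 6 and divisible by 3, without
  non-zero fixed element, consists of `0` and one orbit of length 2 or 3 and sum 0.
-/

set_option autoImplicit false
set_option linter.unusedSectionVars false

namespace Cfsg.Agent.H251.E6

section

variable {K : Type*} [Field K] [DecidableEq K] {R : Multiset K}

theorem sum_le (hcard : R.card = 27) {l : List K} (hl : l.Nodup) (hR : ∀ x ∈ l, x ∈ R) :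
    (l.map fun x => R.count x).sum ≤ 27 := by
  rw [← List.sum_toFinset _ hl, ← hcard, ← Multiset.toFinset_sum_count_eq]
  refine Finset.sum_le_sum_of_subset fun x hx => ?_
  rw [Multiset.mem_toFinset]
  exact hR x (List.mem_toFinset.1 hx)

theorem toFinset_eq {l : List K} (hR : ∀ x ∈ l, x ∈ R) (hl' : ∀ x ∈ R, x ∈ l) : R.toFinset = l.toFinset := by
  ext x
  rw [Multiset.mem_toFinset, List.mem_toFinset]
  exact ⟨hl' x, hR x⟩

theorem sum_eq (hcard : R.card = 27) {l : List K} (hl : l.Nodup) (hR : ∀ x ∈ l, x ∈ R) (hl' : ∀ x ∈ R, x ∈ l) :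
    (l.map fun x => R.count x).sum = 27 := by
  rw [← List.sum_toFinset _ hl, ← hcard, ← Multiset.toFinset_sum_count_eq, toFinset_eq hR hl']

theorem sum_val {l : List K} (hl : l.Nodup) (hl' : ∀ x ∈ R, x = 0 ∨ x ∈ l) (hR : ∀ x ∈ l, x ∈ R) :
    R.sum = (l.map fun x => R.count x • x).sum := by
  rw [Finset.sum_multiset_count, ← List.sum_toFinset _ hl]
  symm
  refine Finset.sum_subset (fun x hx => ?_) fun x hx hx' => ?_
  · rw [Multiset.mem_toFinset]
    exact hR x (List.mem_toFinset.1 hx)
  · rw [Multiset.mem_toFinset] at hx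
    rw [List.mem_toFinset] at hx'
    rcases hl' x hx with h | h
    · rw [h, smul_zero]
    · exact absurd h hx'

theorem comb (φ : K →+* K) (hcard : R.card = 27) (h6 : ∀ x ∈ R, 6 ≤ R.count x ∧ 3 ∣ R.count x)
    (hφ : ∀ x, R.count (φ x) = R.count x) (hsum : R.sum = 0) (hfix : ∀ x ∈ R, φ x = x → x = 0) (h2 : (2 : K) ≠ 0)
    (h3 : (3 : K) ≠ 0) {a : K} (ha : a ∈ R) (ha0 : a ≠ 0) :
    (φ a = -a ∧ ∀ x ∈ R, x = 0 ∨ x = a ∨ x = φ a) ∨
    (φ (φ (φ a)) = a ∧ a + φ a + φ (φ a) = 0 ∧ ∀ x ∈ R, x = 0 ∨ x = a ∨ x = φ a ∨ x = φ (φ a)) := by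
  have hi : Function.Injective φ := φ.injective
  have hφR : ∀ x ∈ R, φ x ∈ R := fun x hx => by
    rw [← Multiset.count_pos, hφ]
    exact Multiset.count_pos.2 hx
  have hφ0 : ∀ x, x ≠ 0 → φ x ≠ 0 := fun x hx h => hx (hi (by rw [h, map_zero]))
  have hφne : ∀ x ∈ R, x ≠ 0 → φ x ≠ x := fun x hx hx0 h => hx0 (hfix x hx h)
  have h1 : φ a ∈ R := hφR a ha
  have h2' : φ (φ a) ∈ R := hφR _ h1
  have h3' : φ (φ (φ a)) ∈ R := hφR _ h2'
  have n10 : φ a ≠ a := hφne a ha ha0
  have n21 : φ (φ a) ≠ φ a := fun h => n10 (hi h)
  have n32 : φ (φ (φ a)) ≠ φ (φ a) := fun h => n21 (hi h)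
  have c1 : R.count (φ a) = R.count a := hφ a
  have c2 : R.count (φ (φ a)) = R.count a := (hφ _).trans c1
  have c3 : R.count (φ (φ (φ a))) = R.count a := (hφ _).trans c2
  obtain ⟨ha6, ha3⟩ := h6 a ha
  by_cases e : φ (φ a) = a
  · left
    -- two elements
    have hall : ∀ x ∈ R, x = 0 ∨ x = a ∨ x = φ a := by
      intro x hx
      by_contra hcon
      push Not at hcon
      obtain ⟨hx0, hxa, hxb⟩ := hcon
      have hx1 : φ x ∈ R := hφR x hx
      have m1 : φ x ≠ x := hφne x hx hx0
      have m2 : φ x ≠ a := fun h => hxb (hi (by rw [h, e]))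
      have m3 : φ x ≠ φ a := fun h => hxa (hi h)
      obtain ⟨hx6, hx3⟩ := h6 x hx
      have cx : R.count (φ x) = R.count x := hφ x
      have hnd : [a, φ a, x, φ x].Nodup := by
        simp [n10.symm, hxa.symm, hxb.symm, m1.symm, m2.symm, m3.symm]
      have hmem : ∀ y ∈ [a, φ a, x, φ x], y ∈ R := by simp [ha, h1, hx, hx1]
      have hle := sum_le hcard hnd hmem
      simp only [List.map_cons, List.map_nil, List.sum_cons, List.sum_nil, c1, cx] at hle
      obtain ⟨k1, hk1⟩ := ha3
      obtain ⟨k2, hk2⟩ := hx3
      have hlt : R.count a = 6 ∧ R.count x = 6 := by omega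
      by_cases hall : ∀ y ∈ R, y ∈ [a, φ a, x, φ x]
      · have := sum_eq hcard hnd hmem hall
        simp only [List.map_cons, List.map_nil, List.sum_cons, List.sum_nil, c1, cx] at this
        omega
      · push Not at hall
        obtain ⟨y, hy, hyl⟩ := hall
        have hle2 := sum_le hcard (l := y :: [a, φ a, x, φ x]) (List.nodup_cons.2 ⟨hyl, hnd⟩)
          (by intro w hw; rcases List.mem_cons.1 hw with rfl | h; exacts [hy, hmem w h])
        simp only [List.map_cons, List.map_nil, List.sum_cons, List.sum_nil, c1, cx] at hle2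
        have := (h6 y hy).1
        omega
    refine ⟨?_, hall⟩
    have hnd : [a, φ a].Nodup := by simp [n10.symm]
    have hmem : ∀ y ∈ [a, φ a], y ∈ R := by simp [ha, h1]
    have hs := sum_val hnd (fun x hx => by
      rcases hall x hx with h | h | h <;> simp [h]) hmem
    have hle := sum_le hcard hnd hmem
    simp only [List.map_cons, List.map_nil, List.sum_cons, List.sum_nil, c1, add_zero] at hs hle
    rw [hsum, ← smul_add] at hs
    have hd : ((R.count a : ℕ) : K) ≠ 0 := by
      have : R.count a = 6 ∨ R.count a = 9 ∨ R.count a = 12 := by omega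
      rcases this with h | h | h <;> rw [h] <;> push_cast
      · rw [show (6 : K) = 2 * 3 by norm_num]; exact mul_ne_zero h2 h3
      · rw [show (9 : K) = 3 * 3 by norm_num]; exact mul_ne_zero h3 h3
      · rw [show (12 : K) = 2 * 2 * 3 by norm_num]; exact mul_ne_zero (mul_ne_zero h2 h2) h3
    rw [← Nat.cast_smul_eq_nsmul K, smul_eq_mul] at hs
    have h5 := (mul_eq_zero.1 hs.symm).resolve_left hd
    exact eq_neg_of_add_eq_zero_right h5
  · right
    have n20 : φ (φ a) ≠ a := e
    have n31 : φ (φ (φ a)) ≠ φ a := fun h => n20 (hi h)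
    have e3 : φ (φ (φ a)) = a := by
      by_contra n30
      have hnd : [a, φ a, φ (φ a), φ (φ (φ a))].Nodup := by
        simp [n10.symm, n20.symm, n21.symm, n31.symm, n32.symm, Ne.symm n30]
      have hmem : ∀ y ∈ [a, φ a, φ (φ a), φ (φ (φ a))], y ∈ R := by simp [ha, h1, h2', h3']
      have hle := sum_le hcard hnd hmem
      simp only [List.map_cons, List.map_nil, List.sum_cons, List.sum_nil, c1, c2, c3] at hle
      by_cases hall : ∀ y ∈ R, y ∈ [a, φ a, φ (φ a), φ (φ (φ a))]
      · have := sum_eq hcard hnd hmem hall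
        simp only [List.map_cons, List.map_nil, List.sum_cons, List.sum_nil, c1, c2, c3] at this
        omega
      · push Not at hall
        obtain ⟨y, hy, hyl⟩ := hall
        have hle2 := sum_le hcard (l := y :: [a, φ a, φ (φ a), φ (φ (φ a))]) (List.nodup_cons.2 ⟨hyl, hnd⟩)
          (by intro w hw; rcases List.mem_cons.1 hw with rfl | h; exacts [hy, hmem w h])
        simp only [List.map_cons, List.map_nil, List.sum_cons, List.sum_nil, c1, c2, c3] at hle2
        have := (h6 y hy).1
        omega
    have hall : ∀ x ∈ R, x = 0 ∨ x = a ∨ x = φ a ∨ x = φ (φ a) := by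
      intro x hx
      by_contra hcon
      push Not at hcon
      obtain ⟨hx0, hxa, hxb, hxc⟩ := hcon
      have hx1 : φ x ∈ R := hφR x hx
      have m1 : φ x ≠ x := hφne x hx hx0
      have m2 : φ x ≠ a := fun h => hxc (hi (by rw [h, e3]))
      have m3 : φ x ≠ φ a := fun h => hxa (hi h)
      have m4 : φ x ≠ φ (φ a) := fun h => hxb (hi h)
      obtain ⟨hx6, hx3⟩ := h6 x hx
      have cx : R.count (φ x) = R.count x := hφ x
      have hnd : [a, φ a, φ (φ a), x, φ x].Nodup := by
        simp [n10.symm, n20.symm, n21.symm, hxa.symm, hxb.symm, hxc.symm, m1.symm, m2.symm, m3.symm, m4.symm]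
      have hmem : ∀ y ∈ [a, φ a, φ (φ a), x, φ x], y ∈ R := by simp [ha, h1, h2', hx, hx1]
      have hle := sum_le hcard hnd hmem
      simp only [List.map_cons, List.map_nil, List.sum_cons, List.sum_nil, c1, c2, cx] at hle
      omega
    refine ⟨e3, ?_, hall⟩
    have hnd : [a, φ a, φ (φ a)].Nodup := by simp [n10.symm, n20.symm, n21.symm]
    have hmem : ∀ y ∈ [a, φ a, φ (φ a)], y ∈ R := by simp [ha, h1, h2']
    have hs := sum_val hnd (fun x hx => by
      rcases hall x hx with h | h | h | h <;> simp [h]) hmem
    have hle := sum_le hcard hnd hmem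
    simp only [List.map_cons, List.map_nil, List.sum_cons, List.sum_nil, c1, c2, add_zero] at hs hle
    rw [hsum, ← smul_add, ← smul_add, ← add_assoc] at hs
    have hd : ((R.count a : ℕ) : K) ≠ 0 := by
      have : R.count a = 6 ∨ R.count a = 9 := by omega
      rcases this with h | h <;> rw [h] <;> push_cast
      · rw [show (6 : K) = 2 * 3 by norm_num]; exact mul_ne_zero h2 h3
      · rw [show (9 : K) = 3 * 3 by norm_num]; exact mul_ne_zero h3 h3
    rw [← Nat.cast_smul_eq_nsmul K, smul_eq_mul] at hs
    exact (mul_eq_zero.1 hs.symm).resolve_left hd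

set_option maxHeartbeats 3200000 in
/-- sums of three elements -/
theorem comb_triple (φ : K →+* K) (hcard : R.card = 27) (h6 : ∀ x ∈ R, 6 ≤ R.count x ∧ 3 ∣ R.count x)
    (hφ : ∀ x, R.count (φ x) = R.count x) (hsum : R.sum = 0) (hfix : ∀ x ∈ R, φ x = x → x = 0) (h2 : (2 : K) ≠ 0)
    (h3 : (3 : K) ≠ 0) {a : K} (ha : a ∈ R) (ha0 : a ≠ 0) :
    (∀ x ∈ R, ∀ y ∈ R, ∀ z ∈ R, x + y + z = 0 →
      φ ((1 + x) * (1 + y) * (1 + z)) = (1 + x) * (1 + y) * (1 + z)) ∧
    ¬ ∃ c, ∀ x ∈ R, φ (1 + x) = c * (1 + x) := by
  have hφR : ∀ x ∈ R, φ x ∈ R := fun x hx => by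
    rw [← Multiset.count_pos, hφ]
    exact Multiset.count_pos.2 hx
  rcases comb φ hcard h6 hφ hsum hfix h2 h3 ha ha0 with ⟨e, hall⟩ | ⟨e3, hs, hall⟩
  · constructor
    · rw [e] at hall
      intro x hx y hy z hz h0
      rcases hall x hx with rfl | rfl | rfl <;> rcases hall y hy with rfl | rfl | rfl <;>
        rcases hall z hz with rfl | rfl | rfl <;> simp only [map_mul, map_add, map_one, map_zero, map_neg, e] <;>
        first
        | ring1
        | (exfalso
           first
           | exact ha0 (by linear_combination h0)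
           | exact ha0 (by linear_combination -h0)
           | exact mul_ne_zero h2 ha0 (by linear_combination h0)
           | exact mul_ne_zero h2 ha0 (by linear_combination -h0)
           | exact mul_ne_zero h3 ha0 (by linear_combination h0)
           | exact mul_ne_zero h3 ha0 (by linear_combination -h0))
    · rintro ⟨c, hc⟩
      have e1 := hc a ha
      have e2 := hc (φ a) (hφR a ha)
      rw [e, map_add, map_neg, map_one, e] at e2
      rw [map_add, map_one, e] at e1
      have e3 : (2 : K) * (1 - c) = 0 := by linear_combination e1 + e2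
      have e4 : c = 1 := by
        have := (mul_eq_zero.1 e3).resolve_left h2
        linear_combination -this
      rw [e4] at e1
      exact mul_ne_zero h2 ha0 (by linear_combination -e1)
  · have hi : Function.Injective φ := φ.injective
    obtain ⟨b, hb⟩ : ∃ b, b = φ a := ⟨_, rfl⟩
    obtain ⟨c, hc⟩ : ∃ c, c = φ b := ⟨_, rfl⟩
    rw [← hb, ← hc] at e3 hs hall
    have hbR : b ∈ R := hb ▸ hφR a ha
    have hcR : c ∈ R := hc ▸ hφR b hbR
    have hb0 : b ≠ 0 := fun h => ha0 (hi (by rw [← hb, h, map_zero]))
    have hc0 : c ≠ 0 := fun h => hb0 (hi (by rw [← hc, h, map_zero]))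
    have φ2 : φ 2 = 2 := map_ofNat φ 2
    have pab : 2 * a + b ≠ 0 := by
      intro h
      have h' := congrArg φ h
      rw [map_add, map_mul, φ2, ← hb, ← hc, map_zero] at h'
      exact mul_ne_zero h3 ha0 (by linear_combination hs + h - h')
    have pac : 2 * a + c ≠ 0 := by
      intro h
      have h' := congrArg φ h
      rw [map_add, map_mul, φ2, ← hb, e3, map_zero] at h'
      have h'' := congrArg φ h'
      rw [map_add, map_mul, φ2, ← hb, ← hc, map_zero] at h''
      exact mul_ne_zero h3 ha0 (by linear_combination hs + h - h'')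
    have shift : ∀ x y : K, φ (2 * x + y) ≠ 0 → 2 * x + y ≠ 0 := fun x y h h' => h (by rw [h', map_zero])
    have unshift : ∀ x y : K, 2 * x + y ≠ 0 → 2 * φ x + φ y ≠ 0 := by
      intro x y h h'
      apply h
      apply hi
      rw [map_add, map_mul, φ2, h', map_zero]
    have pbc : 2 * b + c ≠ 0 := by have := unshift a b pab; rwa [← hb, ← hc] at this
    have pba : 2 * b + a ≠ 0 := by have := unshift a c pac; rwa [← hb, e3] at this
    have pca : 2 * c + a ≠ 0 := by have := unshift b c pbc; rwa [← hc, e3] at this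
    have pcb : 2 * c + b ≠ 0 := by have := unshift b a pba; rwa [← hb, ← hc] at this
    constructor
    · intro x hx y hy z hz h0
      rcases hall x hx with h | h | h | h <;> rcases hall y hy with h' | h' | h' | h' <;>
        rcases hall z hz with h'' | h'' | h'' | h'' <;> rw [h, h', h''] at h0 ⊢ <;>
        simp only [map_mul, map_add, map_one, map_zero, ← hb, ← hc, e3] <;>
        first
        | ring1
        | (exfalso
           first
           | exact ha0 (by linear_combination h0)
           | exact hb0 (by linear_combination h0)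
           | exact hc0 (by linear_combination h0)
           | exact mul_ne_zero h2 ha0 (by linear_combination h0)
           | exact mul_ne_zero h2 hb0 (by linear_combination h0)
           | exact mul_ne_zero h2 hc0 (by linear_combination h0)
           | exact mul_ne_zero h3 ha0 (by linear_combination h0)
           | exact mul_ne_zero h3 hb0 (by linear_combination h0)
           | exact mul_ne_zero h3 hc0 (by linear_combination h0)
           | exact ha0 (by linear_combination hs - h0)
           | exact hb0 (by linear_combination hs - h0)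
           | exact hc0 (by linear_combination hs - h0)
           | exact pab (by linear_combination h0)
           | exact pac (by linear_combination h0)
           | exact pbc (by linear_combination h0)
           | exact pba (by linear_combination h0)
           | exact pca (by linear_combination h0)
           | exact pcb (by linear_combination h0))
    · rintro ⟨t, ht⟩
      have e1 := ht a ha
      have e2 := ht b hbR
      have e4 := ht c hcR
      rw [map_add, map_one, ← hb] at e1
      rw [map_add, map_one, ← hc] at e2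
      rw [map_add, map_one, e3] at e4
      have e5 : (3 : K) * (1 - t) = 0 := by linear_combination e1 + e2 + e4 + (t - 1) * hs
      have e6 : t = 1 := by
        have := (mul_eq_zero.1 e5).resolve_left h3
        linear_combination -this
      rw [e6] at e1
      exact ha0 (hfix a ha (by rw [← hb]; linear_combination e1))

end

end Cfsg.Agent.H251.E6
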