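import Mathlib

/-!
# Dimensions of representations of a perfect group with a central element of order 3 (helper251, S5927)

* `dim_six` : the dimension is divisible by 3 and at least 6, if there is an element of order 5 conjugate to its square,
  whose normal closure is the whole group.
-/

set_option autoImplicit false
set_option linter.unusedSectionVars false

namespace Cfsg.Agent.H251.E6

open Module

section

variable {K G W : Type*} [Field K] [Group G] [AddCommGroup W] [Module K W] [FiniteDimensional K W]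

theorem det_eq_one (ρ : Representation K G W) (hG : commutator G = ⊤) (x : G) : LinearMap.det (ρ x) = 1 := by
  let d : G →* K := (LinearMap.det : Module.End K W →* K).comp ρ
  let δ : G →* Kˣ := d.toHomUnits
  have h1 : commutator G ≤ δ.ker := by
    rw [commutator_def, Subgroup.commutator_le]
    intro a _ b _
    rw [MonoidHom.mem_ker, map_commutatorElement, commutatorElement_eq_one_iff_mul_comm, mul_comm]
  rw [hG] at h1
  have h2 : δ x = 1 := MonoidHom.mem_ker.1 (h1 (Subgroup.mem_top x))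
  have h3 : ((δ x : Kˣ) : K) = 1 := by rw [h2, Units.val_one]
  exact h3

theorem three_dvd (ρ : Representation K G W) (hG : commutator G = ⊤) {z : G} {ω : K} (hω1 : ω ≠ 1) (hω3 : ω ^ 3 = 1)
    (hz : ∀ w, ρ z w = ω • w) : 3 ∣ finrank K W := by
  have h1 := det_eq_one ρ hG z
  have h2 : ρ z = ω • LinearMap.id := LinearMap.ext fun w => hz w
  rw [h2, LinearMap.det_smul, LinearMap.det_id, mul_one] at h1
  have h3 : orderOf ω = 3 := orderOf_eq_prime hω3 hω1
  rw [← h3]
  exact orderOf_dvd_of_pow_eq_one h1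

theorem four_le [IsAlgClosed K] (ρ : Representation K G W) {g h : G} (hg : g ^ 5 = 1) (hh : h * g * h⁻¹ = g ^ 2)
    (h5 : (5 : K) ≠ 0) (hne : ρ g ≠ 1) : 4 ≤ finrank K W := by
  classical
  have h50 : ρ g ^ 5 = 1 := by rw [← map_pow, hg, map_one]
  -- an eigenvector
  obtain ⟨μ, v, hv0, hv, hμ1⟩ : ∃ (μ : K) (v : W), v ≠ 0 ∧ ρ g v = μ • v ∧ μ ≠ 1 := by
    let R : Submodule K W := LinearMap.range (ρ g - 1)
    have hR : R ≠ ⊥ := by
      intro h
      apply hne
      rw [LinearMap.range_eq_bot] at h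
      exact sub_eq_zero.1 h
    have hst : ∀ w ∈ R, ρ g w ∈ R := by
      rintro _ ⟨w, rfl⟩
      exact ⟨ρ g w, by simp only [LinearMap.sub_apply, Module.End.one_apply, map_sub]⟩
    have : Nontrivial ↥R := (Submodule.nontrivial_iff_ne_bot).2 hR
    obtain ⟨μ, hμ⟩ := Module.End.exists_eigenvalue ((ρ g).restrict hst)
    obtain ⟨⟨v, hvR⟩, hv1⟩ := hμ.exists_hasEigenvector
    have hv2 : ρ g v = μ • v := congrArg Subtype.val hv1.apply_eq_smul
    have hv0 : v ≠ 0 := fun h => hv1.2 (Subtype.ext h)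
    refine ⟨μ, v, hv0, hv2, ?_⟩
    rintro rfl
    obtain ⟨w, hw⟩ := hvR
    -- `(1 + g + g² + g³ + g⁴) (g - 1) w = 0`
    have h6 : (1 + ρ g + ρ g ^ 2 + ρ g ^ 3 + ρ g ^ 4) * (ρ g - 1) = 0 := by
      have : (1 + ρ g + ρ g ^ 2 + ρ g ^ 3 + ρ g ^ 4) * (ρ g - 1) = ρ g ^ 5 - 1 := by
        noncomm_ring
      rw [this, h50, sub_self]
    have h7 := congrArg (fun f : Module.End K W => f w) h6
    simp only [Module.End.mul_apply, hw, LinearMap.zero_apply] at h7
    have h8 : ∀ n : ℕ, (ρ g ^ n) v = v := by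
      intro n
      induction n with
      | zero => rfl
      | succ n ih => rw [pow_succ, Module.End.mul_apply, hv2, one_smul, ih]
    simp only [LinearMap.add_apply, Module.End.one_apply, h8, hv2, one_smul] at h7
    have h9 : (5 : K) • v = 0 := by
      rw [← h7]
      module
    exact hv0 ((smul_eq_zero.1 h9).resolve_left h5)
  have hμ5 : μ ^ 5 = 1 := by
    have h6 : ∀ n : ℕ, (ρ g ^ n) v = μ ^ n • v := by
      intro n
      induction n with
      | zero => rw [pow_zero, pow_zero, one_smul]; rfl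
      | succ n ih => rw [pow_succ', Module.End.mul_apply, ih, map_smul, hv, smul_smul, ← pow_succ]
    have h7 := h6 5
    rw [h50, Module.End.one_apply] at h7
    have h8 : (μ ^ 5 - 1) • v = 0 := by rw [sub_smul, one_smul, ← h7, sub_self]
    exact sub_eq_zero.1 ((smul_eq_zero.1 h8).resolve_right hv0)
  have hsq : ∀ (c : K) (w : W), ρ g w = c • w → ρ g (ρ h⁻¹ w) = c ^ 2 • ρ h⁻¹ w := by
    intro c w hw
    have e1 : g * h⁻¹ = h⁻¹ * (g * g) := by
      rw [← pow_two, ← hh]; group
    rw [← Module.End.mul_apply, ← map_mul, e1, map_mul, map_mul, Module.End.mul_apply, Module.End.mul_apply, hw,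
      map_smul, hw, map_smul, map_smul, smul_smul, pow_two]
  let u : ℕ → W := fun n => (ρ h⁻¹ ^ n) v
  have hu : ∀ n, ρ g (u n) = μ ^ 2 ^ n • u n ∧ u n ≠ 0 := by
    intro n
    induction n with
    | zero => exact ⟨by show ρ g v = _; rw [hv, pow_zero, pow_one]; rfl, hv0⟩
    | succ n ih =>
      have e : u (n + 1) = ρ h⁻¹ (u n) := by
        show (ρ h⁻¹ ^ (n + 1)) v = _
        rw [pow_succ', Module.End.mul_apply]
      refine ⟨?_, ?_⟩
      · rw [e, hsq _ _ ih.1, ← pow_mul, ← pow_succ]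
      · rw [e]
        intro h0
        apply ih.2
        have := congrArg (ρ h) h0
        rw [← Module.End.mul_apply, ← map_mul, mul_inv_cancel, map_one, map_zero] at this
        exact this
  have : Fact (Nat.Prime 5) := ⟨by norm_num⟩
  have hord : orderOf μ = 5 := orderOf_eq_prime hμ5 hμ1
  have hinj : Function.Injective (fun i : Fin 4 => μ ^ 2 ^ (i : ℕ)) := by
    intro i j hij
    have hpr : IsPrimitiveRoot μ 5 := hord ▸ IsPrimitiveRoot.orderOf μ
    have hmod : ∀ n : ℕ, μ ^ n = μ ^ (n % 5) := fun n => by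
      conv_lhs => rw [← Nat.div_add_mod n 5, pow_add, pow_mul, hμ5, one_pow, one_mul]
    have h6 : 2 ^ (i : ℕ) % 5 = 2 ^ (j : ℕ) % 5 := by
      refine hpr.pow_inj (Nat.mod_lt _ (by norm_num)) (Nat.mod_lt _ (by norm_num)) ?_
      rw [← hmod, ← hmod]
      exact hij
    have h7 : ∀ i j : Fin 4, 2 ^ (i : ℕ) % 5 = 2 ^ (j : ℕ) % 5 → i = j := by decide
    exact h7 i j h6
  have hli : LinearIndependent K (fun i : Fin 4 => u i) :=
    Module.End.eigenvectors_linearIndependent' (ρ g) (fun i : Fin 4 => μ ^ 2 ^ (i : ℕ)) hinj _ fun i =>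
      ⟨Module.End.mem_eigenspace_iff.2 (hu i).1, (hu i).2⟩
  have := hli.fintype_card_le_finrank
  rwa [Fintype.card_fin] at this

theorem dim_six [Nontrivial W] (ρ : Representation K G W) (hG : commutator G = ⊤) {z g h : G} {ω : K} (hω1 : ω ≠ 1)
    (hω3 : ω ^ 3 = 1) (hz : ∀ w, ρ z w = ω • w) (hg : g ^ 5 = 1) (hh : h * g * h⁻¹ = g ^ 2) (h5 : (5 : K) ≠ 0)
    (hN : ∀ N : Subgroup G, N.Normal → g ∈ N → N = ⊤) : 3 ∣ finrank K W ∧ 6 ≤ finrank K W := by
  have h3 := three_dvd ρ hG hω1 hω3 hz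
  refine ⟨h3, ?_⟩
  have hne : ρ g ≠ 1 := by
    intro h1
    have h2 := hN ρ.ker inferInstance (MonoidHom.mem_ker.2 h1)
    have h4 : ρ z = 1 := MonoidHom.mem_ker.1 (h2 ▸ Subgroup.mem_top z)
    obtain ⟨w, hw⟩ := exists_ne (0 : W)
    have h6 := hz w
    rw [h4, Module.End.one_apply] at h6
    have h7 : (ω - 1) • w = 0 := by rw [sub_smul, one_smul, ← h6, sub_self]
    exact hω1 (sub_eq_zero.1 ((smul_eq_zero.1 h7).resolve_right hw))
  let L := AlgebraicClosure K
  let ρ' : Representation L G (TensorProduct K L W) :=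
    ((Module.End.baseChangeHom K L W : Module.End K W →ₐ[K] _) : Module.End K W →* _).comp ρ
  have h1 : ∀ x, ρ' x = (ρ x).baseChange L := fun x => rfl
  have h4 : 4 ≤ finrank L (TensorProduct K L W) := by
    refine four_le ρ' hg hh ?_ ?_
    · have e : (5 : L) = algebraMap K L 5 := by rw [map_ofNat]
      rw [e]
      exact (map_ne_zero _).2 h5
    · intro h6
      apply hne
      ext w
      rw [h1] at h6
      have h7 : (ρ g).baseChange L ((1 : L) ⊗ₜ[K] w) = (1 : L) ⊗ₜ[K] w := by rw [h6]; rfl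
      rw [LinearMap.baseChange_tmul] at h7
      exact Module.Flat.tensorProduct_mk_injective K W L h7
  rw [Module.finrank_baseChange] at h4
  omega

end

end Cfsg.Agent.H251.E6
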