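import Cfsg.Agent.H251.E6.Ext

/-!
# Generalized eigenspaces of derivations (helper251, S5927)
-/

set_option autoImplicit false

namespace Cfsg.Agent.H251.E6

open Cfsg Cfsg.Lie Module
open Cfsg.Agent.ChevalleyStructure.E6Min.Tables Cfsg.Agent.ChevalleyStructure.E6Min.Basic
open Cfsg.Agent.H952.F4 (sh cr tf)
open Cfsg.Agent.H952.F4.Jord
open Cfsg.Agent.H163.E6.Der (IsDer)
open scoped Matrix

universe u v

/-! ### traces -/

section Trace

variable {K : Type v} [Field K] {W : Type*} [AddCommGroup W] [Module K W] [FiniteDimensional K W]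

theorem trace_restrict (X : Module.End K W) (μ : K)
    (h : Set.MapsTo X (X.maxGenEigenspace μ : Set W) (X.maxGenEigenspace μ)) :
    LinearMap.trace K _ (X.restrict h) = μ * (finrank K (X.maxGenEigenspace μ) : K) := by
  have h1 := X.isNilpotent_restrict_maxGenEigenspace_sub_algebraMap μ
  have h2 := LinearMap.trace_comp_eq_mul_of_commute_of_isNilpotent (R := K) (M := X.maxGenEigenspace μ)
    (f := 1) (g := X.restrict h) μ (Commute.one_left _) h1
  rw [LinearMap.trace_one] at h2
  exact h2

theorem trace_sq [IsAlgClosed K] (X : Module.End K W) {s : Finset K}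
    (hs : ∀ μ, X.maxGenEigenspace μ ≠ ⊥ → μ ∈ s) :
    LinearMap.trace K _ (X * X) = ∑ μ ∈ s, μ * (μ * (finrank K (X.maxGenEigenspace μ) : K)) := by
  classical
  have hds := DirectSum.isInternal_submodule_of_iSupIndep_of_iSup_eq_top
    X.independent_maxGenEigenspace (Module.End.iSup_maxGenEigenspace_eq_top X)
  have h_fin : {μ | X.maxGenEigenspace μ ≠ ⊥}.Finite :=
    WellFoundedGT.finite_ne_bot_of_iSupIndep X.independent_maxGenEigenspace
  have hX : ∀ μ, Set.MapsTo X (X.maxGenEigenspace μ : Set W) (X.maxGenEigenspace μ) := fun μ =>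
    X.mapsTo_maxGenEigenspace_of_comm rfl μ
  have hXX : ∀ μ, Set.MapsTo (X * X) (X.maxGenEigenspace μ : Set W) (X.maxGenEigenspace μ) := fun μ =>
    (hX μ).comp (hX μ)
  rw [LinearMap.trace_eq_sum_trace_restrict' hds h_fin hXX]
  have key : ∀ μ, LinearMap.trace K _ ((X * X).restrict (hXX μ)) = μ * (μ * (finrank K (X.maxGenEigenspace μ) : K)) := by
    intro μ
    have h1 := X.isNilpotent_restrict_maxGenEigenspace_sub_algebraMap μ
    have h2 := LinearMap.trace_comp_eq_mul_of_commute_of_isNilpotent (R := K) (M := X.maxGenEigenspace μ)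
      (f := X.restrict (hX μ)) (g := X.restrict (hX μ)) μ (Commute.refl _) h1
    rw [trace_restrict] at h2
    rw [← h2]
    rfl
  rw [Finset.sum_congr rfl fun μ _ => key μ]
  refine Finset.sum_subset (fun μ hμ => hs μ ?_) fun μ _ hμ => ?_
  · simpa using hμ
  · have h3 : X.maxGenEigenspace μ = ⊥ := by simpa using hμ
    rw [h3, finrank_bot, Nat.cast_zero, mul_zero, mul_zero]

end Trace

section Grad

variable {K : Type v} [Field K] [IsAlgClosed K] [DecidableEq K] {M : Matrix I27 I27 K}

/-- the generalized eigenspaces -/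
noncomputable abbrev G (M : Matrix I27 I27 K) (a : K) : Submodule K (I27 → K) :=
  Module.End.maxGenEigenspace (Matrix.toLin' M) a

omit [IsAlgClosed K] in
theorem mem_roots_iff {a : K} : a ∈ M.charpoly.roots ↔ G M a ≠ ⊥ := by
  rw [← Multiset.count_pos, count_roots', Nat.pos_iff_ne_zero, Ne, Submodule.finrank_eq_zero]

theorem G_ind {p : (I27 → K) → Prop} (h : ∀ μ ∈ M.charpoly.roots, ∀ z ∈ G M μ, p z) (h0 : p 0)
    (hadd : ∀ x y, p x → p y → p (x + y)) (z : I27 → K) : p z := by
  have hz : z ∈ ⨆ μ, G M μ := by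
    rw [Module.End.iSup_maxGenEigenspace_eq_top]
    trivial
  refine Submodule.iSup_induction (fun μ => G M μ) (motive := p) hz (fun μ z hz => ?_) h0 hadd
  by_cases hμ : μ ∈ M.charpoly.roots
  · exact h μ hμ z hz
  · rw [mem_roots_iff, not_not] at hμ
    rw [hμ, Submodule.mem_bot] at hz
    rwa [hz]

theorem G_cr (hX : IsDer (Matrix.toLin' M)) {a b : K} (h : ∀ μ ∈ M.charpoly.roots, a + b + μ ≠ 0) {x y : I27 → K}
    (hx : x ∈ G M a) (hy : y ∈ G M b) : cr x y = 0 := by
  refine tf_nondeg fun z => G_ind (M := M) (p := fun z => tf (cr x y) z = 0) (fun μ hμ z hz => ?_) ?_ ?_ z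
  · exact hX.grading (h μ hμ) hx hy hz
  · exact T_zero3 x y
  · intro z z' h1 h2
    show tf (cr x y) (z + z') = 0
    rw [tf_add_right, h1, h2, add_zero]

omit [IsAlgClosed K] [DecidableEq K] in
theorem ts_of_cr (h2 : (2 : K) ≠ 0) {W : Submodule K (I27 → K)} (h : ∀ x ∈ W, ∀ y ∈ W, cr x y = 0) :
    H163.E6.TS W := by
  refine ts_of h2 fun x hx y hy z => ?_
  unfold T
  rw [h x hx y hy, ← zero_smul K (0 : I27 → K), tf_smul_left, zero_mul]

theorem G_ts (h2 : (2 : K) ≠ 0) (hX : IsDer (Matrix.toLin' M)) {a : K}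
    (h : ∀ μ ∈ M.charpoly.roots, 2 * a + μ ≠ 0) : H163.E6.TS (G M a) := by
  refine ts_of_cr h2 fun x hx y hy => G_cr hX (fun μ hμ => ?_) hx hy
  rw [← two_mul]
  exact h μ hμ

theorem G_le_six (h2 : (2 : K) ≠ 0) (hX : IsDer (Matrix.toLin' M)) {a : K}
    (h : ∀ μ ∈ M.charpoly.roots, 2 * a + μ ≠ 0) : M.charpoly.roots.count a ≤ 6 := by
  rw [count_roots']
  exact ts_le_six (G_ts h2 hX h)

/-- the zero eigenspace in the case of three eigenvalues -/
theorem zero_ts (h2 : (2 : K) ≠ 0) (h3 : (3 : K) ≠ 0) (hX : IsDer (Matrix.toLin' M)) {a : K}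
    (ha : a ∈ M.charpoly.roots) (ha0 : a ≠ 0) (h2a : ∀ μ ∈ M.charpoly.roots, a + μ ≠ 0) :
    H163.E6.TS (G M 0) := by
  obtain ⟨y, hy, hy0⟩ := Submodule.exists_mem_ne_zero_of_ne_bot (mem_roots_iff.1 ha)
  have hN : ∀ x ∈ G M 0, cubicT x = 0 := by
    intro x hx
    have h1 : cr x y = 0 := G_cr hX (fun μ hμ => by rw [zero_add]; exact h2a μ hμ) hx hy
    have h4 := hX.grading (by rwa [zero_add, zero_add]) hx hx hy
    rw [cr_self, tf_smul_left] at h4
    have h5 := (mul_eq_zero.1 h4).resolve_left h2
    have h6 := cr_sh_cr x y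
    rw [h1, h5, zero_smul, add_zero] at h6
    have h7 : cr (sh x) (0 : I27 → K) = 0 := by
      have := cr_smul_right (0 : K) (sh x) (0 : I27 → K)
      rwa [zero_smul, zero_smul] at this
    rw [h7] at h6
    exact (smul_eq_zero.1 h6.symm).resolve_right hy0
  have h6 : (6 : K) ≠ 0 := by
    have := mul_ne_zero h2 h3
    norm_num at this
    exact this
  have hT1 : ∀ x ∈ G M 0, T x x x = 0 := fun x hx => by rw [T_self, hN x hx, mul_zero]
  have hT2 : ∀ x ∈ G M 0, ∀ y ∈ G M 0, T x x y = 0 := by
    intro x hx y hy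
    have e1 := hT1 _ (Submodule.add_mem _ hy hx)
    have e2 := hT1 _ (Submodule.add_mem _ hy (Submodule.smul_mem _ (-1 : K) hx))
    simp only [T_add1, T_add2, T_add3, T_smul1, T_smul2, T_smul3, hT1 x hx, hT1 y hy] at e1 e2
    rw [T_comm' y x y, T_comm' x y x, T_comm x y y, T_comm' y x y, T_comm y x x, T_comm' x y x] at e1 e2
    have e3 : (6 : K) * T x x y = 0 := by linear_combination e1 + e2
    exact (mul_eq_zero.1 e3).resolve_left h6
  have hT3 : ∀ x ∈ G M 0, ∀ y ∈ G M 0, ∀ z ∈ G M 0, T x y z = 0 := by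
    intro x hx y hy z hz
    have e1 := hT2 _ (Submodule.add_mem _ hx hy) z hz
    simp only [T_add1, T_add2, hT2 x hx z hz, hT2 y hy z hz] at e1
    rw [T_comm y x z] at e1
    have e3 : (2 : K) * T x y z = 0 := by linear_combination e1
    exact (mul_eq_zero.1 e3).resolve_left h2
  refine ts_of h2 fun x hx y hy z => ?_
  refine G_ind (M := M) (p := fun z => T x y z = 0) (fun μ hμ z hz => ?_) ?_ ?_ z
  · by_cases h0 : μ = 0
    · subst h0
      exact hT3 x hx y hy z hz
    · exact hX.grading (by rwa [zero_add, zero_add]) hx hy hz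
  · exact T_zero3 x y
  · intro z z' h1 h2
    show T x y (z + z') = 0
    rw [T_add3, h1, h2, add_zero]

/-- **the eigenvalues** -/
theorem two_case (h2 : (2 : K) ≠ 0) (h3 : (3 : K) ≠ 0) (hX : IsDer (Matrix.toLin' M)) (φ : K →+* K) (hφ : M.map φ = M)
    (htr : M.trace = 0)
    (hsix : ∀ x ∈ M.charpoly.roots, 6 ≤ M.charpoly.roots.count x ∧ 3 ∣ M.charpoly.roots.count x)
    (hfix : ∀ x ∈ M.charpoly.roots, φ x = x → x = 0) {a : K} (ha : a ∈ M.charpoly.roots) (ha0 : a ≠ 0) :
    φ a = -a ∧ finrank K (G M a) = 6 ∧ H163.E6.TS (G M a) ∧ (M * M).trace = 12 * (a * a) := by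
  have hcard := card_roots M
  have hsum : M.charpoly.roots.sum = 0 := by rw [← Matrix.trace_eq_sum_roots_charpoly, htr]
  have hcm := count_map M φ hφ
  have hinj := φ.injective
  have h2a : (2 : K) * a ≠ 0 := mul_ne_zero h2 ha0
  have h3a : (3 : K) * a ≠ 0 := mul_ne_zero h3 ha0
  have hφR : ∀ x ∈ M.charpoly.roots, φ x ∈ M.charpoly.roots := fun x hx => by
    rw [← Multiset.count_pos, hcm]
    exact Multiset.count_pos.2 hx
  rcases comb φ hcard hsix hcm hsum hfix h2 h3 ha ha0 with ⟨e, hall⟩ | ⟨e3, hs, hall⟩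
  · have hts : ∀ μ ∈ M.charpoly.roots, 2 * a + μ ≠ 0 := by
      intro μ hμ
      rcases hall μ hμ with h | h | h
      · rwa [h, add_zero]
      · rw [h]; intro h0; exact h3a (by linear_combination h0)
      · rw [h, e]; intro h0; exact ha0 (by linear_combination h0)
    have hle := G_le_six h2 hX hts
    have h66 := hsix a ha
    have hca : M.charpoly.roots.count a = 6 := le_antisymm hle h66.1
    refine ⟨e, ?_, G_ts h2 hX hts, ?_⟩
    · rw [← hca, count_roots']
    · have hcb : M.charpoly.roots.count (-a) = 6 := by rw [← e, hcm, hca]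
      have h4 := trace_sq (Matrix.toLin' M) (s := ({0, a, -a} : Finset K)) fun μ hμ => by
        have := hall μ (mem_roots_iff.2 hμ)
        rw [e] at this
        simpa using this
      have h5 : LinearMap.trace K _ (Matrix.toLin' M * Matrix.toLin' M) = (M * M).trace := by
        rw [← Matrix.trace_toLin'_eq, Matrix.toLin'_mul]
        rfl
      rw [← h5, h4, Finset.sum_insert, Finset.sum_insert, Finset.sum_singleton]
      · rw [← count_roots', ← count_roots', ← count_roots', hca, hcb]
        push_cast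
        ring
      · rw [Finset.mem_singleton]
        intro h
        exact h2a (by linear_combination h)
      · rw [Finset.mem_insert, Finset.mem_singleton]
        rintro (h | h)
        · exact ha0 h.symm
        · exact ha0 (by linear_combination h)
  · exfalso
    set b := φ a with hb
    set c := φ b with hc
    have hbR : b ∈ M.charpoly.roots := hφR a ha
    have hcR : c ∈ M.charpoly.roots := hφR b hbR
    have nab : b ≠ a := fun h => ha0 (hfix a ha h)
    have nbc : c ≠ b := fun h => nab (hinj h)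
    have nac : c ≠ a := fun h => nbc (by
      apply hinj
      rw [e3, ← hc, h])
    have hb0 : b ≠ 0 := fun h => ha0 (hinj (by rw [← hb, h, map_zero]))
    have hc0 : c ≠ 0 := fun h => hb0 (hinj (by rw [← hc, h, map_zero]))
    have hle : M.charpoly.roots.count a ≤ 6 := G_le_six h2 hX fun μ hμ => by
      rcases hall μ hμ with h | h | h | h
      · rwa [h, add_zero]
      · rw [h]; intro h0; exact h3a (by linear_combination h0)
      · rw [h]; intro h0; exact nac (by linear_combination hs - h0)
      · rw [h]; intro h0; exact nab (by linear_combination hs - h0)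
    have h66 := hsix a ha
    have hca : M.charpoly.roots.count a = 6 := le_antisymm hle h66.1
    have hcb : M.charpoly.roots.count b = 6 := by rw [hb, hcm, hca]
    have hcc : M.charpoly.roots.count c = 6 := by rw [hc, hcm, hcb]
    have h0 : M.charpoly.roots.count 0 ≤ 6 := by
      rw [count_roots']
      refine ts_le_six (zero_ts h2 h3 hX ha ha0 fun μ hμ => ?_)
      rcases hall μ hμ with h | h | h | h
      · rwa [h, add_zero]
      · rw [h, ← two_mul]; exact h2a
      · rw [h]; intro h0; exact hc0 (by linear_combination hs - h0)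
      · rw [h]; intro h0; exact hb0 (by linear_combination hs - h0)
    by_cases hz : (0 : K) ∈ M.charpoly.roots
    · have h4 := sum_eq hcard (l := [0, a, b, c]) (by
        simp only [List.nodup_cons, List.mem_cons, List.not_mem_nil, or_false, not_or, List.nodup_nil, not_false_eq_true,
          and_true]
        exact ⟨⟨fun h => ha0 h.symm, fun h => hb0 h.symm, fun h => hc0 h.symm⟩, ⟨fun h => nab h.symm, fun h => nac h.symm⟩,
          fun h => nbc h.symm⟩) (by
        intro x hx
        simp only [List.mem_cons, List.not_mem_nil, or_false] at hx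
        rcases hx with rfl | rfl | rfl | rfl <;> assumption) (by
        intro x hx
        simpa using hall x hx)
      simp only [List.map_cons, List.map_nil, List.sum_cons, List.sum_nil, hca, hcb, hcc] at h4
      omega
    · have h4 := sum_eq hcard (l := [a, b, c]) (by
        simp only [List.nodup_cons, List.mem_cons, List.not_mem_nil, or_false, not_or, List.nodup_nil, not_false_eq_true,
          and_true]
        exact ⟨⟨fun h => nab h.symm, fun h => nac h.symm⟩, fun h => nbc h.symm⟩) (by
        intro x hx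
        simp only [List.mem_cons, List.not_mem_nil, or_false] at hx
        rcases hx with rfl | rfl | rfl <;> assumption) (by
        intro x hx
        have h5 := hall x hx
        simp only [List.mem_cons, List.not_mem_nil, or_false]
        exact h5.resolve_left fun h => hz (h ▸ hx))
      simp only [List.map_cons, List.map_nil, List.sum_cons, List.sum_nil, hca, hcb, hcc] at h4
      omega

end Grad

end Cfsg.Agent.H251.E6
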