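import Cfsg.Agent.H203.E6.Sing

/-!
# Totally singular subspaces have dimension at most 6 (helper251, S5927)
-/

set_option autoImplicit false

namespace Cfsg.Agent.H251.E6

open Cfsg.Lie Cfsg.Agent.ChevalleyStructure Cfsg.Agent.ChevalleyStructure.E6Form.Cubic
  Cfsg.Agent.ChevalleyStructure.E6Form.Table Cfsg.Agent.ChevalleyStructure.E6Form.Elim Module
open Cfsg.Agent.ChevalleyStructure.E6Min.Basic (Zgrp zM zU)
open Cfsg.Agent.H203.E6

universe u

variable {F : Type u} [Field F]

theorem max_facts : ∀ b, b ∉ T6 → ∃ a ∈ T6, nc a b = true := by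
  intro b hb
  have h := forall_wts (p := fun b => T6.contains b || T6.any fun a => nc a b) (by decide +kernel) b
  simp only [Bool.or_eq_true, List.contains_iff_mem, List.any_eq_true] at h
  exact h.resolve_left hb

theorem e_mem_W6 {a : I27} (ha : a ∈ T6) : e F a ∈ W6 F := by
  intro b hb
  refine e_ne ?_
  rintro rfl
  exact hb ha

theorem le_W6_of_le {W : Submodule F (I27 → F)} (hW : TS W) (h : W6 F ≤ W) : W ≤ W6 F := by
  intro x hx b hb
  obtain ⟨a, ha, hab⟩ := max_facts b hb
  exact hW.apply_eq_zero (h (e_mem_W6 ha)) hx hab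

theorem exists_sub {M : Type*} [AddCommGroup M] [Module F M] [FiniteDimensional F M] {W : Submodule F M} {n : ℕ}
    (h : n ≤ finrank F W) : ∃ W₁ ≤ W, finrank F W₁ = n := by
  let b := Module.finBasis F W
  let v : Fin n → M := fun i => (b (Fin.castLE h i) : M)
  have hv : LinearIndependent F v := by
    have h1 : LinearIndependent F fun i : Fin n => b (Fin.castLE h i) :=
      b.linearIndependent.comp _ (Fin.castLE_injective h)
    exact h1.map' W.subtype (Submodule.ker_subtype W)
  refine ⟨Submodule.span F (Set.range v), ?_, ?_⟩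
  · rw [Submodule.span_le]
    rintro _ ⟨i, rfl⟩
    exact (b _).2
  · rw [finrank_span_eq_card hv, Fintype.card_fin]

theorem ts_le_six' {W : Submodule F (I27 → F)} (hW : TS W) : finrank F W ≤ 6 := by
  by_contra hlt
  push Not at hlt
  obtain ⟨W₁, hle, h6⟩ := exists_sub hlt.le
  obtain ⟨g, hg, hgW⟩ := exists_mp_eq (fun x hx => hW x (hle hx)) h6
  have h1 : W6 F ≤ mp g W := by
    rw [← hgW]
    intro x hx
    rw [mem_mp] at hx ⊢
    exact hle hx
  have h2 := Submodule.finrank_mono (le_W6_of_le (hW.mp hg) h1)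
  rw [finrank_mp] at h2
  have h3 := finrank_W6_le (F := F)
  omega

/-- **totally singular subspaces have dimension at most 6** -/
theorem ts_le_six {W : Submodule F (I27 → F)} (hW : Cfsg.Agent.H163.E6.TS W) : finrank F W ≤ 6 :=
  ts_le_six' (TS_of hW)

end Cfsg.Agent.H251.E6
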