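import Cfsg.Agent.H251.E6.Tri
import Cfsg.Agent.H251.E6.TSix
import Cfsg.Agent.H251.E6.Comb
import Cfsg.Agent.H65.E6Root
import Cfsg.Agent.H927.E6Der2

/-!
# Derivations over an extension field (helper251, S5927)
-/

set_option autoImplicit false

namespace Cfsg.Agent.H251.E6

open Cfsg Cfsg.Lie Module
open Cfsg.Agent.ChevalleyStructure.E6Min.Tables Cfsg.Agent.ChevalleyStructure.E6Min.Basic
open Cfsg.Agent.H952.F4 (sh cr tf)
open Cfsg.Agent.H952.F4.Jord
open Cfsg.Agent.H163.E6.Der (IsDer)
open Cfsg.Agent.H65.E6Emb (emb coe_emb tf_map cr_map)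
open scoped Matrix

universe u v

section

variable {F : Type u} {K : Type v} [Field F] [Field K] (f : F →+* K)

theorem T_map (x y z : I27 → F) : T (fun i => f (x i)) (fun i => f (y i)) (fun i => f (z i)) = f (T x y z) := by
  unfold T
  rw [cr_map, tf_map]

theorem lin_ext {g : (I27 → K) → K} (hadd : ∀ x y, g (x + y) = g x + g y) (hsmul : ∀ (c : K) x, g (c • x) = c * g x)
    (h : ∀ i, g (Pi.single i 1) = 0) (x : I27 → K) : g x = 0 := by
  let G : (I27 → K) →ₗ[K] K := ⟨⟨g, hadd⟩, hsmul⟩
  have h1 : G = 0 := (Pi.basisFun K I27).ext fun i => by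
    rw [Pi.basisFun_apply]
    exact h i
  exact LinearMap.congr_fun h1 x

theorem single_map (i : I27) : (Pi.single i 1 : I27 → K) = fun j => f ((Pi.single i 1 : I27 → F) j) := by
  funext j
  rw [Pi.single_apply, Pi.single_apply]
  split_ifs <;> simp

theorem Der.map {M : Matrix I27 I27 F} (h : Der T (Matrix.toLin' M)) : Der T (Matrix.toLin' (M.map f)) := by
  have hX : ∀ x : I27 → F, Matrix.toLin' (M.map f) (fun i => f (x i)) = fun i => f (Matrix.toLin' M x i) := by
    intro x
    rw [Matrix.toLin'_apply, Matrix.toLin'_apply, H65.E6Emb.map_mulVec]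
  set X := Matrix.toLin' (M.map f)
  intro x y z
  refine lin_ext (g := fun x => T (X x) y z + T x (X y) z + T x y (X z)) ?_ ?_ (fun i => ?_) x
  · intro x x'
    simp only [map_add, T_add1]; ring
  · intro c x
    simp only [map_smul, T_smul1]; ring
  refine lin_ext (g := fun y => T (X (Pi.single i 1)) y z + T (Pi.single i 1) (X y) z + T (Pi.single i 1) y (X z)) ?_ ?_
    (fun j => ?_) y
  · intro x x'
    simp only [map_add, T_add2]; ring
  · intro c x
    simp only [map_smul, T_smul2]; ring
  refine lin_ext (g := fun z => T (X (Pi.single i 1)) (Pi.single j 1) z + T (Pi.single i 1) (X (Pi.single j 1)) z +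
    T (Pi.single i 1) (Pi.single j 1) (X z)) ?_ ?_ (fun k => ?_) z
  · intro x x'
    simp only [map_add, T_add3]; ring
  · intro c x
    simp only [map_smul, T_smul3]; ring
  rw [single_map f i, single_map f j, single_map f k, hX, hX, hX, T_map, T_map, T_map, ← map_add, ← map_add, h,
    map_zero]

theorem T_two (x z : I27 → F) : T x x z = 2 * tf (sh x) z := by
  unfold T
  rw [cr_self, tf_smul_left]

theorem Der.isDer (h2 : (2 : F) ≠ 0) (h3 : (3 : F) ≠ 0) {X : (I27 → F) →ₗ[F] (I27 → F)} (h : Der T X) : IsDer X where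
  one x := by
    have h1 := h x x x
    rw [T_comm (X x), T_comm' x (X x), T_two, ← add_mul, ← add_mul] at h1
    have h6 : (2 : F) + 2 + 2 ≠ 0 := by
      have := mul_ne_zero h2 h3
      ring_nf at this ⊢
      exact this
    exact (mul_eq_zero.1 h1).resolve_left h6
  two x y := by
    have h1 := h x x y
    rw [T_comm' (X x), T_comm (X x), T_comm' y, T_comm y, T_comm' x (X x), T_two] at h1
    have e : tf (cr x y) (X x) = T x y (X x) := rfl
    rw [e]
    have h4 : (2 : F) * (T x y (X x) + tf (sh x) (X y)) = 0 := by linear_combination h1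
    exact (mul_eq_zero.1 h4).resolve_left h2

theorem _root_.Cfsg.Agent.H163.E6.Der.IsDer.der {X : (I27 → F) →ₗ[F] (I27 → F)} (h : IsDer X) : Der T X := by
  intro x y z
  have h1 := h.tri x y z
  rw [T_comm (X x) y z, T_comm' y (X x) z, T_comm' x (X y) z]
  exact h1

end

/-! ### the eigenvalues -/

section Roots

variable {K : Type v} [Field K]

theorem card_roots [IsAlgClosed K] (M : Matrix I27 I27 K) : M.charpoly.roots.card = 27 := by
  rw [← (IsAlgClosed.splits M.charpoly).natDegree_eq_card_roots, Matrix.charpoly_natDegree_eq_dim]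
  rfl

theorem count_roots' [DecidableEq K] (M : Matrix I27 I27 K) (a : K) :
    M.charpoly.roots.count a = finrank K (Module.End.maxGenEigenspace (Matrix.toLin' M) a) := by
  rw [LinearMap.finrank_maxGenEigenspace_eq, Matrix.charpoly_toLin', Polynomial.count_roots]

theorem count_map [DecidableEq K] (M : Matrix I27 I27 K) (φ : K →+* K) (hM : M.map φ = M) (a : K) :
    M.charpoly.roots.count (φ a) = M.charpoly.roots.count a := by
  rw [Polynomial.count_roots, Polynomial.count_roots, Polynomial.eq_rootMultiplicity_map φ.injective a,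
    ← Matrix.charpoly_map, hM]

end Roots

end Cfsg.Agent.H251.E6
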