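import Cfsg.Agent.H251.E6.Eig
import Cfsg.Agent.H333.E6Act

/-!
# Derivations commuting with a group (helper251, S5927)
-/

set_option autoImplicit false

namespace Cfsg.Agent.H251.E6

open Cfsg Cfsg.Lie Module
open Cfsg.Agent.ChevalleyStructure.E6Min.Tables Cfsg.Agent.ChevalleyStructure.E6Min.Basic
  Cfsg.Agent.ChevalleyStructure.E6Min.Adjoint
open Cfsg.Agent.H952.F4 (sh cr tf)
open Cfsg.Agent.H952.F4.Jord
open Cfsg.Agent.H163.E6 (V V_apply)
open Cfsg.Agent.H163.E6.Der (IsDer)
open Cfsg.Agent.H65.E6Emb (emb coe_emb)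
open scoped Matrix

universe u v

/-! ### fixed points of the Frobenius map -/

section Frob

variable {F : Type u} {K : Type v} [Field F] [Fintype F] [Field K] (f : F →+* K)

theorem mem_range_of_pow {x : K} (hx : x ^ Fintype.card F = x) : x ∈ Set.range f := by
  classical
  by_contra hn
  have h1 : (Polynomial.X ^ Fintype.card F - Polynomial.X : Polynomial K) ≠ 0 :=
    FiniteField.X_pow_card_sub_X_ne_zero K Fintype.one_lt_card
  have h2 : insert x (Finset.univ.image f) ⊆
      (Polynomial.X ^ Fintype.card F - Polynomial.X : Polynomial K).roots.toFinset := by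
    intro y hy
    rw [Multiset.mem_toFinset, Polynomial.mem_roots h1, Polynomial.IsRoot, Polynomial.eval_sub, Polynomial.eval_pow,
      Polynomial.eval_X, sub_eq_zero]
    rw [Finset.mem_insert, Finset.mem_image] at hy
    rcases hy with rfl | ⟨z, -, rfl⟩
    · exact hx
    · rw [← map_pow, FiniteField.pow_card]
  have h3 := Finset.card_le_card h2
  rw [Finset.card_insert_of_notMem (by
    rw [Finset.mem_image]
    rintro ⟨z, -, rfl⟩
    exact hn ⟨z, rfl⟩), Finset.card_image_of_injective _ f.injective, Finset.card_univ] at h3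
  have h4 := (Multiset.toFinset_card_le _).trans (Polynomial.card_roots' (Polynomial.X ^ Fintype.card F - Polynomial.X : Polynomial K))
  rw [FiniteField.X_pow_card_sub_X_natDegree_eq K Fintype.one_lt_card] at h4
  omega

end Frob

/-! ### nilpotent derivations -/

section Nil

variable {F : Type u} [Field F]

theorem finrank_range_pow {W : Type*} [AddCommGroup W] [Module F W] [FiniteDimensional F W] {X : Module.End F W} {k d : ℕ}
    (hk : X ^ (k + 1) = 0) (hd : d ≤ finrank F (LinearMap.range (X ^ k))) :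
    ∀ i j, i + j = k + 1 → d * i ≤ finrank F (LinearMap.range (X ^ j)) := by
  intro i
  induction i with
  | zero => intro j _; simp
  | succ i ih =>
    intro j hj
    have h1 := ih (j + 1) (by omega)
    let g : LinearMap.range (X ^ j) →ₗ[F] W := (X ^ i).domRestrict _
    have h2 := LinearMap.finrank_range_add_finrank_ker g
    have h3 : LinearMap.range (X ^ k) ≤ LinearMap.range g := by
      rintro _ ⟨w, rfl⟩
      refine ⟨⟨(X ^ j) w, ⟨w, rfl⟩⟩, ?_⟩
      show (X ^ i) ((X ^ j) w) = _
      rw [← Module.End.mul_apply, ← pow_add, show i + j = k by omega]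
    have h4 : finrank F (LinearMap.range (X ^ (j + 1))) ≤ finrank F (LinearMap.ker g) := by
      have hle : LinearMap.range (X ^ (j + 1)) ≤ LinearMap.range (X ^ j) := by
        rintro _ ⟨w, rfl⟩
        exact ⟨X w, by rw [← Module.End.mul_apply, ← pow_succ]⟩
      have h5 : Submodule.comap (LinearMap.range (X ^ j)).subtype (LinearMap.range (X ^ (j + 1))) ≤ LinearMap.ker g := by
        rintro ⟨_, _⟩ ⟨w, hw⟩
        rw [LinearMap.mem_ker]
        show (X ^ i) _ = 0
        have hw' : (X ^ (j + 1)) w = _ := hw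
        rw [← hw', ← Module.End.mul_apply, ← pow_add, show i + (j + 1) = k + 1 by omega, hk, LinearMap.zero_apply]
      have h6 := Submodule.finrank_mono h5
      rwa [(Submodule.comapSubtypeEquivOfLe hle).finrank_eq] at h6
    have h7 := Submodule.finrank_mono h3
    rw [mul_add, mul_one]
    omega

end Nil

/-! ### the hypotheses -/

section Main

variable {F : Type u} [Field F]

/-- derivations commuting with a group -/
structure D0 (B : Subgroup ↥(Zgrp F)) (M : Matrix I27 I27 F) : Prop where
  der : Der T (Matrix.toLin' M)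
  comm : ∀ b ∈ B, ((b : GL I27 F) : Matrix I27 I27 F) * M = M * ((b : GL I27 F) : Matrix I27 I27 F)
  tr : M.trace = 0

theorem Der.add' {X Y : (I27 → F) →ₗ[F] (I27 → F)} (hX : Der T X) (hY : Der T Y) : Der T (X + Y) := by
  intro x y z
  have h1 := hX x y z
  have h2 := hY x y z
  simp only [LinearMap.add_apply, T_add1, T_add2, T_add3]
  linear_combination h1 + h2

theorem Der.smul' (c : F) {X : (I27 → F) →ₗ[F] (I27 → F)} (hX : Der T X) : Der T (c • X) := by
  intro x y z
  have h1 := hX x y z
  simp only [LinearMap.smul_apply, T_smul1, T_smul2, T_smul3]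
  linear_combination c * h1

theorem D0.add {B : Subgroup ↥(Zgrp F)} {M N : Matrix I27 I27 F} (hM : D0 B M) (hN : D0 B N) : D0 B (M + N) where
  der := by rw [map_add]; exact hM.der.add' hN.der
  comm b hb := by rw [mul_add, add_mul, hM.comm b hb, hN.comm b hb]
  tr := by rw [Matrix.trace_add, hM.tr, hN.tr, add_zero]

theorem D0.smul {B : Subgroup ↥(Zgrp F)} {M : Matrix I27 I27 F} (hM : D0 B M) (c : F) : D0 B (c • M) where
  der := by rw [map_smul]; exact hM.der.smul' c
  comm b hb := by rw [mul_smul_comm, smul_mul_assoc, hM.comm b hb]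
  tr := by rw [Matrix.trace_smul, hM.tr, smul_zero]

/-- the hypotheses on the group; `f : F → K` is the algebraic closure -/
structure Hyp {K : Type v} [Field K] (f : F →+* K) (B : Subgroup ↥(Zgrp F)) : Prop where
  perf : ⁅B, B⁆ = B
  two : (2 : F) ≠ 0
  three : (3 : F) ≠ 0
  six : ∀ W : Submodule F (I27 → F), W ≠ ⊥ → (∀ b ∈ B, ∀ w ∈ W, V F b w ∈ W) → 6 ≤ finrank F W
  sixK : ∀ W : Submodule K (I27 → K), W ≠ ⊥ → (∀ b ∈ B, ∀ w ∈ W, V K (emb f b) w ∈ W) →
    3 ∣ finrank K W ∧ 6 ≤ finrank K W
  no_six : ∀ W : Submodule F (I27 → F), (∀ b ∈ B, ∀ w ∈ W, V F b w ∈ W) → finrank F W = 6 → ¬ H163.E6.TS W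

variable {K : Type v} [Field K] {f : F →+* K} {B : Subgroup ↥(Zgrp F)} {M : Matrix I27 I27 F}

/-- no totally singular stable subspaces -/
theorem Hyp.no_ts (h : Hyp f B) {W : Submodule F (I27 → F)} (hW : W ≠ ⊥) (hst : ∀ b ∈ B, ∀ w ∈ W, V F b w ∈ W)
    (hts : H163.E6.TS W) : False :=
  h.no_six W hst (le_antisymm (ts_le_six hts) (h.six W hW hst)) hts

theorem D0.commV (hM : D0 B M) {b : ↥(Zgrp F)} (hb : b ∈ B) (x : I27 → F) :
    V F b (Matrix.toLin' M x) = Matrix.toLin' M (V F b x) := by
  rw [V_apply, V_apply, Matrix.toLin'_apply, Matrix.toLin'_apply, Matrix.mulVec_mulVec, Matrix.mulVec_mulVec,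
    hM.comm b hb]

theorem D0.commV_pow (hM : D0 B M) {b : ↥(Zgrp F)} (hb : b ∈ B) (n : ℕ) (x : I27 → F) :
    V F b ((Matrix.toLin' M ^ n) x) = (Matrix.toLin' M ^ n) (V F b x) := by
  induction n generalizing x with
  | zero => rfl
  | succ n ih => rw [pow_succ, Module.End.mul_apply, Module.End.mul_apply, ih, hM.commV hb]

theorem D0.nil (h : Hyp f B) (hM : D0 B M) (hn : IsNilpotent M) : M = 0 := by
  by_contra hM0
  set X := Matrix.toLin' M with hX
  have hXn : IsNilpotent X := by
    obtain ⟨n, hn⟩ := hn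
    refine ⟨n, ?_⟩
    rw [hX, ← Matrix.toLin'_pow, hn, map_zero]
  obtain ⟨k, hk1, hk0⟩ : ∃ k, X ^ (k + 1) = 0 ∧ X ^ k ≠ 0 := by
    classical
    have hex : ∃ n, X ^ n = 0 := hXn
    have h1 := Nat.find_spec hex
    have h2 : Nat.find hex ≠ 0 := by
      intro h0
      rw [h0, pow_zero] at h1
      exact one_ne_zero h1
    obtain ⟨k, hk⟩ := Nat.exists_eq_succ_of_ne_zero h2
    refine ⟨k, by rwa [hk] at h1, fun h3 => ?_⟩
    have := Nat.find_min' hex h3
    omega
  have hkk : k ≠ 0 := by
    rintro rfl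
    rw [zero_add, pow_one] at hk1
    exact hM0 (Matrix.toLin'.map_eq_zero_iff.1 hk1)
  set W := LinearMap.range (X ^ k) with hW
  have hWne : W ≠ ⊥ := by
    rw [hW, Ne, LinearMap.range_eq_bot]
    exact hk0
  have hst : ∀ b ∈ B, ∀ w ∈ W, V F b w ∈ W := by
    rintro b hb _ ⟨w, rfl⟩
    exact ⟨V F b w, (hM.commV_pow hb k w).symm⟩
  have h6 := h.six W hWne hst
  have h7 := finrank_range_pow hk1 h6 (k + 1) 0 (by omega)
  rw [pow_zero, show (1 : Module.End F (I27 → F)) = LinearMap.id from rfl, LinearMap.range_id, finrank_top,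
    finrank_fintype_fun_eq_card] at h7
  have h8 : Fintype.card I27 = 27 := rfl
  rw [h8] at h7
  have hk3 : k ≤ 3 := by omega
  have hkF : ((k + 1 : ℕ) : F) ≠ 0 := by
    have h22 : (2 : F) * 2 ≠ 0 := mul_ne_zero h.two h.two
    have hk' : k = 1 ∨ k = 2 ∨ k = 3 := by omega
    rcases hk' with rfl | rfl | rfl
    · simpa using h.two
    · simpa using h.three
    · norm_num at h22 ⊢
      exact h22
  refine h.no_ts hWne hst (ts_of h.two ?_)
  rintro _ ⟨x, rfl⟩ _ ⟨y, rfl⟩ z
  have := hM.der.range_nil T_zero1 T_zero2 T_zero3 hk1 (by omega) hkF x y z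
  rwa [Nat.add_sub_cancel] at this

/-- eigenspaces in the field of definition -/
theorem D0.step (h : Hyp f B) (hM : D0 B M) {μ : F} (hμ : Module.End.HasEigenvalue (Matrix.toLin' M) μ) :
    Module.End.HasEigenvalue (Matrix.toLin' M) (-2 * μ) := by
  by_contra hn
  rw [Module.End.HasEigenvalue, Module.End.HasUnifEigenvalue, not_not] at hn
  refine h.no_ts (W := Module.End.eigenspace (Matrix.toLin' M) μ) hμ ?_ ?_
  · intro b hb w hw
    rw [Module.End.mem_eigenspace_iff] at hw ⊢
    rw [← hM.commV hb, hw, map_smul]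
  · refine ts_of h.two fun x hx y hy z => ?_
    rw [Module.End.mem_eigenspace_iff] at hx hy
    refine hM.der.eig_ts T_smul1 T_smul2 T_smul3 (fun x y z z' => T_add3 x y z z') hx hy (fun z hz => ?_) z
    have : z ∈ Module.End.eigenspace (Matrix.toLin' M) (-2 * μ) := Module.End.mem_eigenspace_iff.2 hz
    rw [Module.End.eigenspace, hn] at this
    exact (Submodule.mem_bot F).1 this

theorem map_toLin'_comm (hM : D0 B M) {b : ↥(Zgrp F)} (hb : b ∈ B) :
    Commute (Matrix.toLin' (M.map f)) (V K (emb f b)) := by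
  refine LinearMap.ext fun x => ?_
  rw [Module.End.mul_apply, Module.End.mul_apply, V_apply, V_apply, Matrix.toLin'_apply, Matrix.toLin'_apply,
    Matrix.mulVec_mulVec, Matrix.mulVec_mulVec, coe_emb, ← Matrix.map_mul, ← Matrix.map_mul, hM.comm b hb]

theorem D0.roots_six [DecidableEq K] (h : Hyp f B) (hM : D0 B M) {x : K} (hx : x ∈ (M.map f).charpoly.roots) :
    6 ≤ (M.map f).charpoly.roots.count x ∧ 3 ∣ (M.map f).charpoly.roots.count x := by
  have h1 := h.sixK (G (M.map f) x) (mem_roots_iff.1 hx) fun b hb w hw =>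
    Module.End.mapsTo_maxGenEigenspace_of_comm (map_toLin'_comm hM hb) x hw
  rw [count_roots']
  exact ⟨h1.2, h1.1⟩

theorem mem_roots_map [DecidableEq K] {μ : F} :
    f μ ∈ (M.map f).charpoly.roots ↔ Module.End.HasEigenvalue (Matrix.toLin' M) μ := by
  rw [Polynomial.mem_roots (Matrix.charpoly_monic _).ne_zero, Matrix.charpoly_map,
    Module.End.hasEigenvalue_iff_isRoot_charpoly, Matrix.charpoly_toLin', Polynomial.IsRoot, Polynomial.IsRoot,
    Polynomial.eval_map, Polynomial.eval₂_hom, map_eq_zero]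

/-- **no rational eigenvalues** -/
theorem D0.fix [IsAlgClosed K] [DecidableEq K] (h : Hyp f B) (h5 : (5 : F) ≠ 0) (hM : D0 B M) {μ : F}
    (hμ : f μ ∈ (M.map f).charpoly.roots) : μ = 0 := by
  by_contra h0
  rw [mem_roots_map] at hμ
  have h1 := hM.step h hμ
  have h2 := hM.step h h1
  have h3 := hM.step h h2
  have h4 := hM.step h h3
  have e2 : -2 * (-2 * μ) = 4 * μ := by ring
  have e3 : -2 * (-2 * (-2 * μ)) = -8 * μ := by ring
  have e4 : -2 * (-2 * (-2 * (-2 * μ))) = 16 * μ := by ring
  rw [e2] at h2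
  rw [e3] at h3
  rw [e4] at h4
  have n3 : (3 : F) ≠ 0 := h.three
  have n2 : (2 : F) ≠ 0 := h.two
  have key := sum_le (card_roots (M.map f)) (l := [f μ, f (-2 * μ), f (4 * μ), f (-8 * μ), f (16 * μ)]) (by
    have inj := f.injective
    simp only [List.nodup_cons, List.mem_cons, List.not_mem_nil, or_false, not_or, List.nodup_nil, not_false_eq_true,
      and_true, inj.eq_iff]
    have m : ∀ {a : F}, a ≠ 0 → a * μ ≠ 0 := fun ha => mul_ne_zero ha h0
    have n9 : (9 : F) ≠ 0 := by
      have := mul_ne_zero n3 n3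
      norm_num at this
      exact this
    have n15 : (15 : F) ≠ 0 := by
      have := mul_ne_zero n3 h5
      norm_num at this
      exact this
    have n6 : (6 : F) ≠ 0 := by
      have := mul_ne_zero n2 n3
      norm_num at this
      exact this
    have n18 : (18 : F) ≠ 0 := by
      have := mul_ne_zero n6 n3
      norm_num at this
      exact this
    have n12 : (12 : F) ≠ 0 := by
      have := mul_ne_zero n6 n2
      norm_num at this
      exact this
    have n24 : (24 : F) ≠ 0 := by
      have := mul_ne_zero n12 n2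
      norm_num at this
      exact this
    refine ⟨⟨fun e => m n3 ?_, fun e => m n3 ?_, fun e => m n9 ?_, fun e => m n15 ?_⟩, ⟨fun e => m n6 ?_, fun e => m n6 ?_,
      fun e => m n18 ?_⟩, ⟨fun e => m n12 ?_, fun e => m n12 ?_⟩, fun e => m n24 ?_⟩
    · linear_combination e
    · linear_combination -e
    · linear_combination e
    · linear_combination -e
    · linear_combination -e
    · linear_combination e
    · linear_combination -e
    · linear_combination e
    · linear_combination -e
    · linear_combination -e) (by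
    intro x hx
    simp only [List.mem_cons, List.not_mem_nil, or_false] at hx
    rcases hx with rfl | rfl | rfl | rfl | rfl <;> exact mem_roots_map.2 (by assumption))
  simp only [List.map_cons, List.map_nil, List.sum_cons, List.sum_nil] at key
  have k1 := (hM.roots_six h (mem_roots_map.2 hμ)).1
  have k2 := (hM.roots_six h (mem_roots_map.2 h1)).1
  have k3 := (hM.roots_six h (mem_roots_map.2 h2)).1
  have k4 := (hM.roots_six h (mem_roots_map.2 h3)).1
  have k5 := (hM.roots_six h (mem_roots_map.2 h4)).1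
  omega

theorem isNilpotent_of_roots [IsAlgClosed K] {N : Matrix I27 I27 K} (h : ∀ x ∈ N.charpoly.roots, x = 0) :
    IsNilpotent N := by
  have h1 := (IsAlgClosed.splits N.charpoly).eq_prod_roots_of_monic (Matrix.charpoly_monic N)
  have h2 : N.charpoly.roots = Multiset.replicate 27 0 := by
    rw [Multiset.eq_replicate]
    exact ⟨card_roots N, h⟩
  rw [h2, Multiset.map_replicate, Multiset.prod_replicate, map_zero, sub_zero] at h1
  have h3 := Matrix.aeval_self_charpoly N
  rw [h1, map_pow, Polynomial.aeval_X] at h3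
  exact ⟨27, h3⟩

theorem isNilpotent_map {N : Matrix I27 I27 F} (h : IsNilpotent (N.map f)) : IsNilpotent N := by
  obtain ⟨n, hn⟩ := h
  refine ⟨n, Matrix.map_injective f.injective ?_⟩
  have h1 : (N ^ n).map f = (N.map f) ^ n := map_pow f.mapMatrix N n
  show (N ^ n).map f = (0 : Matrix I27 I27 F).map f
  rw [h1, hn, Matrix.map_zero _ (map_zero f)]

/-- **the trace form** -/
theorem D0.cases [Fintype F] [IsAlgClosed K] [DecidableEq K] (h : Hyp f B) (h5 : (5 : F) ≠ 0) (hM : D0 B M)
    (hM0 : M ≠ 0) : ∃ a : K, a ∉ Set.range f ∧ finrank K (G (M.map f) a) = 6 ∧ H163.E6.TS (G (M.map f) a) ∧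
      ∃ s : F, f s = a * a ∧ (M * M).trace = 12 * s := by
  obtain ⟨a, ha, ha0⟩ : ∃ a ∈ (M.map f).charpoly.roots, a ≠ 0 := by
    by_contra hcon
    push Not at hcon
    exact hM0 (hM.nil h (isNilpotent_map (isNilpotent_of_roots hcon)))
  obtain ⟨p, hp⟩ := CharP.exists F
  have hpK : CharP K p := charP_of_injective_ringHom f.injective p
  obtain ⟨n, hpp, hn⟩ := FiniteField.card F p
  have : Fact p.Prime := ⟨hpp⟩
  let φ : K →+* K := iterateFrobenius K p n
  have hφ : ∀ x, φ x = x ^ Fintype.card F := by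
    intro x
    rw [hn]
    exact iterateFrobenius_def p n x
  have hφf : ∀ x : F, φ (f x) = f x := fun x => by rw [hφ, ← map_pow, FiniteField.pow_card]
  have h2K : (2 : K) ≠ 0 := by
    have := (map_ne_zero f).2 h.two
    rwa [map_ofNat] at this
  have h3K : (3 : K) ≠ 0 := by
    have := (map_ne_zero f).2 h.three
    rwa [map_ofNat] at this
  have hder : IsDer (Matrix.toLin' (M.map f)) := (hM.der.map f).isDer h2K h3K
  have hMφ : (M.map f).map φ = M.map f := by
    ext i j
    exact hφf _
  have htr : (M.map f).trace = 0 := by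
    rw [← AddMonoidHom.map_trace, hM.tr, map_zero]
  obtain ⟨e, h6, hts, htr2⟩ := two_case h2K h3K hder φ hMφ htr (fun x hx => hM.roots_six h hx) (fun x hx hxx => by
    rw [hφ] at hxx
    obtain ⟨μ, rfl⟩ := mem_range_of_pow f hxx
    rw [hM.fix h h5 hx, map_zero]) ha ha0
  have hna : a ∉ Set.range f := by
    rintro ⟨μ, rfl⟩
    rw [hφf] at e
    have : (2 : K) * f μ = 0 := by linear_combination e
    exact ha0 ((mul_eq_zero.1 this).resolve_left h2K)
  have haa : (a * a) ^ Fintype.card F = a * a := by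
    rw [← hφ, map_mul, e]
    ring
  obtain ⟨s, hs⟩ := mem_range_of_pow f haa
  refine ⟨a, hna, h6, hts, s, hs, f.injective ?_⟩
  rw [map_mul, hs, map_ofNat, ← htr2, ← Matrix.map_mul]
  exact AddMonoidHom.map_trace f.toAddMonoidHom _

end Main

end Cfsg.Agent.H251.E6
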