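import Cfsg.Agent.H251.E6.FLev

/-!
# Derivations commuting with a group: conclusion (helper251, S5927)
-/

set_option autoImplicit false

namespace Cfsg.Agent.H251.E6

open Cfsg Cfsg.Lie Module
open Cfsg.Agent.ChevalleyStructure.E6Min.Tables Cfsg.Agent.ChevalleyStructure.E6Min.Basic
  Cfsg.Agent.ChevalleyStructure.E6Min.Adjoint
open Cfsg.Agent.H952.F4 (sh cr tf)
open Cfsg.Agent.H952.F4.Jord
open Cfsg.Agent.H163.E6 (V V' V_apply)
open Cfsg.Agent.H163.E6.Der (IsDer)
open Cfsg.Agent.H65.E6Emb (emb coe_emb)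
open scoped Matrix

universe u v

section Group

variable {K : Type v} [Field K]

theorem T_act (g : ↥(Zgrp K)) (x y z : I27 → K) : T (V K g x) (V K g y) (V K g z) = T x y z := by
  unfold T
  rw [H163.E6.Act.cr_act, tf_comm, H163.E6.Act.tf_act, tf_comm]

/-- derivation from a one-parameter group -/
theorem der_of_group (h2 : (2 : K) ≠ 0) (h3 : (3 : K) ≠ 0) {N : Matrix I27 I27 K}
    (h : ∀ t : K, ∃ g ∈ Zgrp K, ((g : GL I27 K) : Matrix I27 I27 K) = 1 + t • N) : Der T (Matrix.toLin' N) := by
  intro x y z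
  set X := Matrix.toLin' N with hX
  have key : ∀ t : K, t * (T (X x) y z + T x (X y) z + T x y (X z)) +
      t ^ 2 * (T (X x) (X y) z + T (X x) y (X z) + T x (X y) (X z)) + t ^ 3 * T (X x) (X y) (X z) = 0 := by
    intro t
    obtain ⟨g, hg, e⟩ := h t
    have e1 : ∀ w, V K ⟨g, hg⟩ w = w + t • X w := by
      intro w
      rw [V_apply]
      show ((g : GL I27 K) : Matrix I27 I27 K) *ᵥ w = _
      rw [e, Matrix.add_mulVec, Matrix.one_mulVec, Matrix.smul_mulVec, hX, Matrix.toLin'_apply]
    have e2 := T_act ⟨g, hg⟩ x y z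
    rw [e1, e1, e1] at e2
    simp only [T_add1, T_add2, T_add3, T_smul1, T_smul2, T_smul3] at e2
    linear_combination e2
  have k1 := key 1
  have k2 := key (-1)
  have k3 := key 2
  have h6 : (6 : K) ≠ 0 := by
    have := mul_ne_zero h2 h3
    norm_num at this
    exact this
  have : (6 : K) * (T (X x) y z + T x (X y) z + T x y (X z)) = 0 := by
    linear_combination 6 * k1 - 2 * k2 - k3
  exact (mul_eq_zero.1 this).resolve_left h6

end Group

section Lin

variable {F : Type u} {K : Type v} [Field F] [Field K] [Algebra F K]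

theorem T_lin (ℓ : K →ₗ[F] F) (y z : I27 → F) (w : I27 → K) :
    ℓ (T w (fun i => algebraMap F K (y i)) (fun i => algebraMap F K (z i))) = T (fun i => ℓ (w i)) y z := by
  let A : (I27 → K) →+ F := AddMonoidHom.mk' (fun w =>
    ℓ (T w (fun i => algebraMap F K (y i)) (fun i => algebraMap F K (z i)))) (fun a b => by
      rw [T_add1, map_add])
  let A' : (I27 → K) →+ F := AddMonoidHom.mk' (fun w => T (fun i => ℓ (w i)) y z) (fun a b => by
      rw [← T_add1]
      congr 1
      funext i
      simp)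
  have h : A = A' := by
    refine AddMonoidHom.functions_ext F A A' fun i c => ?_
    show ℓ (T (Pi.single i c) _ _) = T (fun j => ℓ ((Pi.single i c : I27 → K) j)) y z
    have e1 : (Pi.single i c : I27 → K) = c • Pi.single i 1 := by
      rw [← Pi.single_smul, smul_eq_mul, mul_one]
    have e2 : (fun j => ℓ ((Pi.single i c : I27 → K) j)) = ℓ c • (Pi.single i 1 : I27 → F) := by
      funext j
      rw [Pi.smul_apply, Pi.single_apply, Pi.single_apply]
      split_ifs <;> simp
    rw [e2, T_smul1, e1, T_smul1, single_map (algebraMap F K) i, T_map, mul_comm, ← Algebra.smul_def, map_smul,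
      smul_eq_mul, mul_comm]
  exact DFunLike.congr_fun h w

theorem map_mulVec_lin (ℓ : K →ₗ[F] F) (N : Matrix I27 I27 K) (x : I27 → F) :
    (fun i => ℓ ((N *ᵥ fun j => algebraMap F K (x j)) i)) = (N.map ℓ) *ᵥ x := by
  funext i
  simp only [Matrix.mulVec, dotProduct, Matrix.map_apply, map_sum]
  refine Finset.sum_congr rfl fun j _ => ?_
  rw [mul_comm, ← Algebra.smul_def, map_smul, smul_eq_mul, mul_comm]

theorem Der.lin {N : Matrix I27 I27 K} (h : Der T (Matrix.toLin' N)) (ℓ : K →ₗ[F] F) :
    Der T (Matrix.toLin' (N.map ℓ)) := by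
  intro x y z
  have h1 := h (fun i => algebraMap F K (x i)) (fun i => algebraMap F K (y i)) (fun i => algebraMap F K (z i))
  rw [Matrix.toLin'_apply, Matrix.toLin'_apply, Matrix.toLin'_apply] at h1
  rw [T_comm (fun i => algebraMap F K (x i)) (N *ᵥ _), T_comm' (fun i => algebraMap F K (x i)) _ (N *ᵥ _),
    T_comm (fun i => algebraMap F K (x i)) (N *ᵥ _)] at h1
  have h2 := congrArg ℓ h1
  rw [map_add, map_add, T_lin, T_lin, T_lin, map_mulVec_lin, map_mulVec_lin, map_mulVec_lin, map_zero] at h2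
  rw [Matrix.toLin'_apply, Matrix.toLin'_apply, Matrix.toLin'_apply, T_comm x (N.map ℓ *ᵥ _),
    T_comm' x _ (N.map ℓ *ᵥ _), T_comm x (N.map ℓ *ᵥ _)]
  exact h2

theorem comm_lin {b : Matrix I27 I27 F} {N : Matrix I27 I27 K}
    (h : b.map (algebraMap F K) * N = N * b.map (algebraMap F K)) (ℓ : K →ₗ[F] F) :
    b * N.map ℓ = N.map ℓ * b := by
  ext i k
  have h1 := congrArg ℓ (congrFun (congrFun h i) k)
  simp only [Matrix.mul_apply, Matrix.map_apply, map_sum] at h1 ⊢
  have e1 : ∀ j, ℓ (algebraMap F K (b i j) * N j k) = b i j * ℓ (N j k) := fun j => by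
    rw [← Algebra.smul_def, map_smul, smul_eq_mul]
  have e2 : ∀ j, ℓ (N i j * algebraMap F K (b j k)) = ℓ (N i j) * b j k := fun j => by
    rw [mul_comm, ← Algebra.smul_def, map_smul, smul_eq_mul, mul_comm]
  simp only [e1, e2] at h1
  exact h1

theorem trace_lin {N : Matrix I27 I27 K} (h : N.trace = 0) (ℓ : K →ₗ[F] F) : (N.map ℓ).trace = 0 := by
  have : (N.map ℓ).trace = ℓ N.trace := by
    simp only [Matrix.trace, Matrix.diag_apply, Matrix.map_apply, map_sum]
  rw [this, h, map_zero]

/-- linear forms -/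
theorem exists_forms {s : K} (hs : s ∉ Set.range (algebraMap F K)) :
    ∃ l1 l2 : K →ₗ[F] F, l1 1 = 1 ∧ l1 s = 0 ∧ l2 1 = 0 ∧ l2 s = 1 := by
  have hli : LinearIndependent F ![(1 : K), s] := by
    rw [LinearIndependent.pair_iff' one_ne_zero]
    intro a ha
    exact hs ⟨a, by rw [← ha, Algebra.smul_def, mul_one]⟩
  obtain ⟨g, hg⟩ := (Fintype.linearCombination F ![(1 : K), s]).exists_leftInverse_of_injective
    (LinearMap.ker_eq_bot'.2 fun c hc => funext fun j =>
      Fintype.linearIndependent_iff.1 hli c (by rwa [Fintype.linearCombination_apply] at hc) j)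
  have e1 : g 1 = Pi.single 0 1 := by
    have := LinearMap.congr_fun hg (Pi.single 0 1)
    rw [LinearMap.comp_apply, Fintype.linearCombination_apply_single, one_smul] at this
    exact this
  have e2 : g s = Pi.single 1 1 := by
    have := LinearMap.congr_fun hg (Pi.single 1 1)
    rw [LinearMap.comp_apply, Fintype.linearCombination_apply_single, one_smul] at this
    exact this
  refine ⟨(LinearMap.proj 0).comp g, (LinearMap.proj 1).comp g, ?_, ?_, ?_, ?_⟩
  · rw [LinearMap.comp_apply, e1]; simp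
  · rw [LinearMap.comp_apply, e2]; simp
  · rw [LinearMap.comp_apply, e1]; simp
  · rw [LinearMap.comp_apply, e2]; simp

/-- a linear retraction -/
theorem exists_retract : ∃ l : K →ₗ[F] F, ∀ x, l (algebraMap F K x) = x := by
  obtain ⟨g, hg⟩ := (Algebra.linearMap F K).exists_leftInverse_of_injective
    (LinearMap.ker_eq_bot.2 (algebraMap F K).injective)
  exact ⟨g, fun x => LinearMap.congr_fun hg x⟩

end Lin

section Final

variable {F : Type u} {K : Type v} [Field F] [Fintype F] [Field K] [Algebra F K] [IsAlgClosed K]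
  {B : Subgroup ↥(Zgrp F)} {M : Matrix I27 I27 F}

/-- **no derivations commuting with the group** -/
theorem D0.eq_zero (h : Hyp (algebraMap F K) B) (h5 : (5 : F) ≠ 0) (hM : D0 B M) : M = 0 := by
  classical
  by_contra hM0
  obtain ⟨a, -, h6, hts, -⟩ := hM.cases h h5 hM0
  have h2K : (2 : K) ≠ 0 := by
    have := (map_ne_zero (algebraMap F K)).2 h.two
    rwa [map_ofNat] at this
  have h3K : (3 : K) ≠ 0 := by
    have := (map_ne_zero (algebraMap F K)).2 h.three
    rwa [map_ofNat] at this
  obtain ⟨N, hN, hcomm⟩ := H65.E6Root.root6 (V K) (Or.inl rfl) (B := B.map (emb (algebraMap F K)))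
    (by rw [← Subgroup.map_commutator, h.perf]) h6 hts (by
      rintro _ ⟨b, hb, rfl⟩ w hw
      exact Module.End.mapsTo_maxGenEigenspace_of_comm (map_toLin'_comm hM hb) a hw)
  have hNder := der_of_group h2K h3K hN.mem
  obtain ⟨i, j, hij⟩ : ∃ i j, N i j ≠ 0 := by
    by_contra hcon
    push Not at hcon
    exact hN.ne (Matrix.ext hcon)
  set N' := (N i j)⁻¹ • N with hN'
  have hN'ij : N' i j = 1 := by
    rw [hN', Matrix.smul_apply, smul_eq_mul, inv_mul_cancel₀ hij]
  have hN'der : Der T (Matrix.toLin' N') := by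
    rw [hN', map_smul]
    exact hNder.smul' _
  have hN'sq : N' * N' = 0 := by
    rw [hN', smul_mul_assoc, mul_smul_comm, hN.sq, smul_zero, smul_zero]
  have hN'comm : ∀ b ∈ B, ((b : GL I27 F) : Matrix I27 I27 F).map (algebraMap F K) * N' =
      N' * ((b : GL I27 F) : Matrix I27 I27 F).map (algebraMap F K) := by
    intro b hb
    have h1 := hcomm (emb (algebraMap F K) b) ⟨b, hb, rfl⟩
    rw [coe_emb] at h1
    rw [hN', mul_smul_comm, smul_mul_assoc, h1]
  have hN'tr : N'.trace = 0 := by
    have h1 : IsNilpotent N' := ⟨2, by rw [pow_two, hN'sq]⟩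
    exact (Matrix.isNilpotent_trace_of_isNilpotent h1).eq_zero
  have hD : ∀ ℓ : K →ₗ[F] F, D0 B (N'.map ℓ) := fun ℓ =>
    ⟨hN'der.lin ℓ, fun b hb => comm_lin (hN'comm b hb) ℓ, trace_lin hN'tr ℓ⟩
  by_cases hrat : ∀ k l, N' k l ∈ Set.range (algebraMap F K)
  · choose N0 hN0 using hrat
    have e : (Matrix.of N0).map (algebraMap F K) = N' := by
      ext k l
      exact hN0 k l
    obtain ⟨ℓ, hℓ⟩ := exists_retract (F := F) (K := K)
    have e2 : N'.map ℓ = Matrix.of N0 := by
      rw [← e]
      ext k l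
      exact hℓ _
    have hD0 := hD ℓ
    rw [e2] at hD0
    have h0 := hD0.nil h (isNilpotent_map (f := algebraMap F K) ⟨2, by rw [e, pow_two, hN'sq]⟩)
    rw [h0, Matrix.map_zero _ (map_zero _)] at e
    rw [← e, Matrix.zero_apply] at hN'ij
    exact zero_ne_one hN'ij
  · push Not at hrat
    obtain ⟨k, l, hkl⟩ := hrat
    obtain ⟨l1, l2, e1, e2, e3, e4⟩ := exists_forms hkl
    set M1 := N'.map l1 with hM1
    set M2 := N'.map l2 with hM2
    have hD1 : D0 B M1 := hD l1
    have hD2 : D0 B M2 := hD l2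
    have hM1ne : M1 ≠ 0 := by
      intro h0
      have := congrFun (congrFun h0 i) j
      rw [hM1, Matrix.map_apply, hN'ij, e1] at this
      exact one_ne_zero this
    have hMx : ∀ x : F, x • M1 + M2 ≠ 0 := by
      intro x h0
      have := congrFun (congrFun h0 k) l
      rw [Matrix.add_apply, Matrix.smul_apply, hM1, hM2, Matrix.map_apply, Matrix.map_apply, e2, e4, smul_zero,
        zero_add] at this
      exact one_ne_zero this
    obtain ⟨a1, ha1, -, -, s1, hs1, ht1⟩ := hD1.cases h h5 hM1ne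
    have hs10 : s1 ≠ 0 := by
      rintro rfl
      rw [map_zero] at hs1
      exact ha1 ⟨0, by rw [map_zero, mul_self_eq_zero.1 hs1.symm]⟩
    have h12 : (12 : F) ≠ 0 := by
      have := mul_ne_zero (mul_ne_zero h.two h.two) h.three
      norm_num at this
      exact this
    have hA : (M1 * M1).trace ≠ 0 := by
      rw [ht1]
      exact mul_ne_zero h12 hs10
    let P1 : Polynomial F := Polynomial.C (M1 * M1).trace * Polynomial.X ^ 2 +
      Polynomial.C ((M1 * M2).trace + (M2 * M1).trace) * Polynomial.X + Polynomial.C (M2 * M2).trace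
    let P2 : Polynomial F := Polynomial.C (-12) * Polynomial.X ^ 2 + Polynomial.C 0 * Polynomial.X + Polynomial.C 0
    have hodd : Fintype.card F % 2 = 1 := by
      refine FiniteField.odd_card_of_char_ne_two fun h2 => h.two ?_
      have := (ringChar.spec F 2).2 (by rw [h2])
      exact_mod_cast this
    obtain ⟨x, c, hxc⟩ := FiniteField.exists_root_sum_quadratic (f := P1) (g := P2)
      (Polynomial.degree_quadratic hA) (Polynomial.degree_quadratic (neg_ne_zero.2 h12)) hodd
    have hxc' : ((x • M1 + M2) * (x • M1 + M2)).trace = 12 * (c * c) := by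
      simp only [P1, P2, Polynomial.eval_add, Polynomial.eval_mul, Polynomial.eval_C, Polynomial.eval_pow,
        Polynomial.eval_X] at hxc
      rw [add_mul, mul_add, mul_add, Matrix.trace_add, Matrix.trace_add, Matrix.trace_add, smul_mul_smul_comm,
        smul_mul_assoc, mul_smul_comm, Matrix.trace_smul, Matrix.trace_smul, Matrix.trace_smul, smul_eq_mul,
        smul_eq_mul, smul_eq_mul]
      linear_combination hxc
    obtain ⟨a2, ha2, -, -, s2, hs2, ht2⟩ := ((hD1.smul x).add hD2).cases h h5 (hMx x)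
    rw [ht2] at hxc'
    have e5 := mul_left_cancel₀ h12 hxc'
    rw [e5, map_mul] at hs2
    rcases mul_self_eq_mul_self_iff.1 hs2.symm with h7 | h7
    · exact ha2 ⟨c, h7.symm⟩
    · exact ha2 ⟨-c, by rw [map_neg, h7]⟩

end Final

end Cfsg.Agent.H251.E6
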