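import Cfsg.Agent.H163.E6.Defs
import Cfsg.Agent.H952.F4.Jord

/-!
# Derivations of a trilinear form (helper251, S5927)

* `Der f X` : `f (X x) y z + f x (X y) z + f x y (X z) = 0`;
* `Der.pow_char`, `Der.pow_card` : `p`-th powers of derivations;
* `Der.range_nil` : `X ^ k = 0`: `f` vanishes on `im X ^ (k - 1)` twice;
* `Der.eig` : `f` vanishes on eigenvectors with eigenvalues of non-zero sum;
* `T x y z` : the trilinear form of the 27-dimensional module.
-/

set_option autoImplicit false

namespace Cfsg.Agent.H251.E6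

open Cfsg Cfsg.Lie Module
open Cfsg.Agent.ChevalleyStructure.E6Min.Tables Cfsg.Agent.ChevalleyStructure.E6Min.Basic
open Cfsg.Agent.H952.F4 (sh cr tf)

section Ops

variable {K M : Type*} [Field K] [AddCommGroup M] [Module K M]

/-- composition with the first argument -/
def o1 (X : Module.End K M) : Module.End K (M → M → M → K) where
  toFun f := fun x y z => f (X x) y z
  map_add' _ _ := rfl
  map_smul' _ _ := rfl

/-- composition with the second argument -/
def o2 (X : Module.End K M) : Module.End K (M → M → M → K) where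
  toFun f := fun x y z => f x (X y) z
  map_add' _ _ := rfl
  map_smul' _ _ := rfl

/-- composition with the third argument -/
def o3 (X : Module.End K M) : Module.End K (M → M → M → K) where
  toFun f := fun x y z => f x y (X z)
  map_add' _ _ := rfl
  map_smul' _ _ := rfl

theorem o1_pow (X : Module.End K M) (n : ℕ) : o1 X ^ n = o1 (X ^ n) := by
  induction n with
  | zero => rfl
  | succ n ih => rw [pow_succ, pow_succ', ih]; rfl

theorem o2_pow (X : Module.End K M) (n : ℕ) : o2 X ^ n = o2 (X ^ n) := by
  induction n with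
  | zero => rfl
  | succ n ih => rw [pow_succ, pow_succ', ih]; rfl

theorem o3_pow (X : Module.End K M) (n : ℕ) : o3 X ^ n = o3 (X ^ n) := by
  induction n with
  | zero => rfl
  | succ n ih => rw [pow_succ, pow_succ', ih]; rfl

theorem comm12 (X Y : Module.End K M) : Commute (o1 X) (o2 Y) := rfl
theorem comm13 (X Y : Module.End K M) : Commute (o1 X) (o3 Y) := rfl
theorem comm23 (X Y : Module.End K M) : Commute (o2 X) (o3 Y) := rfl

/-- derivations of a form -/
def Der (f : M → M → M → K) (X : Module.End K M) : Prop := ∀ x y z, f (X x) y z + f x (X y) z + f x y (X z) = 0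

theorem der_iff (f : M → M → M → K) (X : Module.End K M) : Der f X ↔ (o1 X + o2 X + o3 X) f = 0 := by
  constructor
  · intro h
    funext x y z
    exact h x y z
  · intro h x y z
    exact congrFun (congrFun (congrFun h x) y) z

theorem Der.pow_char {p : ℕ} [hp : Fact p.Prime] [CharP K p] {f : M → M → M → K} {X : Module.End K M}
    (h : Der f X) : Der f (X ^ p) := by
  have : CharP (Module.End K (M → M → M → K)) p :=
    charP_of_injective_algebraMap (FaithfulSMul.algebraMap_injective K (Module.End K (M → M → M → K))) p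
  rw [der_iff] at h ⊢
  rw [← o1_pow, ← o2_pow, ← o3_pow, ← add_pow_char_of_commute p (comm12 X X),
    ← add_pow_char_of_commute p ((comm13 X X).add_left (comm23 X X))]
  obtain ⟨n, hn⟩ := Nat.exists_eq_succ_of_ne_zero hp.out.ne_zero
  rw [hn, pow_succ, Module.End.mul_apply, h, map_zero]

theorem Der.pow_char_pow {p : ℕ} [hp : Fact p.Prime] [CharP K p] {f : M → M → M → K} {X : Module.End K M}
    (h : Der f X) (n : ℕ) : Der f (X ^ p ^ n) := by
  induction n with
  | zero => rwa [pow_zero, pow_one]
  | succ n ih => rw [pow_succ, pow_mul]; exact ih.pow_char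

/-- **nilpotent derivations** -/
theorem Der.range_nil {f : M → M → M → K} (h1 : ∀ y z, f 0 y z = 0) (h2 : ∀ x z, f x 0 z = 0)
    (h3 : ∀ x y, f x y 0 = 0) {X : Module.End K M} (h : Der f X) {k : ℕ} (hX : X ^ k = 0) (hk : 2 ≤ k)
    (hkK : (k : K) ≠ 0) (x y z : M) : f ((X ^ (k - 1)) x) ((X ^ (k - 1)) y) z = 0 := by
  rw [der_iff] at h
  -- `(a + b) ^ k f = 0`
  have hc : Commute (o1 X + o2 X) (o3 X) := (comm13 X X).add_left (comm23 X X)
  have h0 : (o1 X + o2 X) f = -(o3 X f) := by
    rw [LinearMap.add_apply] at h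
    exact eq_neg_of_add_eq_zero_left h
  have h4 : ∀ n : ℕ, ((o1 X + o2 X) ^ n) f = ((-1 : K) ^ n) • ((o3 X) ^ n) f := by
    intro n
    induction n with
    | zero => rw [pow_zero, pow_zero, pow_zero, one_smul]
    | succ n ih =>
      rw [pow_succ (o1 X + o2 X), Module.End.mul_apply, h0, map_neg, ← Module.End.mul_apply, (hc.pow_left n).eq,
        Module.End.mul_apply, ih, map_smul, ← Module.End.mul_apply, ← pow_succ', pow_succ (-1 : K), mul_neg_one,
        neg_smul]
  have h5 : ((o1 X + o2 X) ^ k) f = 0 := by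
    rw [h4, o3_pow, hX]
    have e : (o3 (0 : Module.End K M)) f = 0 := by
      funext x y z
      exact h3 x y
    rw [e, smul_zero]
  rw [(comm12 X X).add_pow] at h5
  have h6 := congrFun (congrFun (congrFun h5 ((X ^ (k - 2)) x)) y) z
  rw [LinearMap.sum_apply, Finset.sum_apply, Finset.sum_apply, Finset.sum_apply] at h6
  rw [Finset.sum_eq_single 1] at h6
  · rw [Nat.choose_one_right] at h6
    have h7 : ((o1 X ^ 1 * o2 X ^ (k - 1) * (k : Module.End K (M → M → M → K))) f) ((X ^ (k - 2)) x) y z =
        (k : K) * f ((X ^ (k - 1)) x) ((X ^ (k - 1)) y) z := by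
      have e1 : ((k : Module.End K (M → M → M → K))) f = (k : K) • f := by
        rw [← nsmul_one, LinearMap.smul_apply, Module.End.one_apply, Nat.cast_smul_eq_nsmul]
      rw [Module.End.mul_apply, e1, map_smul, Pi.smul_apply, Pi.smul_apply, Pi.smul_apply, smul_eq_mul, pow_one,
        o2_pow]
      show (k : K) * f (X ((X ^ (k - 2)) x)) ((X ^ (k - 1)) y) z = _
      have e2 : X ((X ^ (k - 2)) x) = (X ^ (k - 1)) x := by
        rw [← Module.End.mul_apply, ← pow_succ', show k - 2 + 1 = k - 1 by omega]
      rw [e2]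
    rw [h7] at h6
    exact (mul_eq_zero.1 h6).resolve_left hkK
  · intro j hj hj1
    have e1 : ((k.choose j : Module.End K (M → M → M → K))) f = ((k.choose j : ℕ) : K) • f := by
      rw [← nsmul_one, LinearMap.smul_apply, Module.End.one_apply, Nat.cast_smul_eq_nsmul]
    rw [Module.End.mul_apply, e1, map_smul, Pi.smul_apply, Pi.smul_apply, Pi.smul_apply, smul_eq_mul, o1_pow, o2_pow]
    show ((k.choose j : ℕ) : K) * f ((X ^ j) ((X ^ (k - 2)) x)) ((X ^ (k - j)) y) z = 0
    rcases Nat.lt_or_ge j 1 with h0 | h0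
    · have : j = 0 := by omega
      subst this
      rw [Nat.sub_zero, hX, LinearMap.zero_apply, h2, mul_zero]
    · have e2 : (X ^ j) ((X ^ (k - 2)) x) = 0 := by
        rw [← Module.End.mul_apply, ← pow_add, show j + (k - 2) = k + (j - 2) by omega, pow_add, hX, zero_mul,
          LinearMap.zero_apply]
      rw [e2, h1, mul_zero]
  · intro hj
    exact absurd (Finset.mem_range.2 (by omega)) hj

/-- **eigenvectors** -/
theorem Der.eig {f : M → M → M → K} (hs1 : ∀ (c : K) x y z, f (c • x) y z = c * f x y z)
    (hs2 : ∀ (c : K) x y z, f x (c • y) z = c * f x y z) (hs3 : ∀ (c : K) x y z, f x y (c • z) = c * f x y z)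
    {X : Module.End K M} (h : Der f X) {a b c : K} {x y z : M} (hx : X x = a • x) (hy : X y = b • y)
    (hz : X z = c • z) (hne : a + b + c ≠ 0) : f x y z = 0 := by
  have h1 := h x y z
  rw [hx, hy, hz, hs1, hs2, hs3, ← add_mul, ← add_mul] at h1
  exact (mul_eq_zero.1 h1).resolve_left hne

/-- **a totally singular eigenspace** -/
theorem Der.eig_ts [FiniteDimensional K M] {f : M → M → M → K}
    (hs1 : ∀ (c : K) x y z, f (c • x) y z = c * f x y z)
    (hs2 : ∀ (c : K) x y z, f x (c • y) z = c * f x y z) (hs3 : ∀ (c : K) x y z, f x y (c • z) = c * f x y z)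
    (ha3 : ∀ x y z z', f x y (z + z') = f x y z + f x y z')
    {X : Module.End K M} (h : Der f X) {a : K} {x y : M} (hx : X x = a • x) (hy : X y = a • y)
    (hne : ∀ z : M, X z = (-2 * a) • z → z = 0) (z : M) : f x y z = 0 := by
  have hinj : Function.Injective (X + (2 * a) • (1 : Module.End K M)) := by
    rw [← LinearMap.ker_eq_bot, eq_bot_iff]
    intro w hw
    refine (Submodule.mem_bot K).2 (hne w ?_)
    rw [LinearMap.mem_ker, LinearMap.add_apply, LinearMap.smul_apply, Module.End.one_apply] at hw
    rw [eq_neg_of_add_eq_zero_left hw, neg_mul, neg_smul]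
  obtain ⟨w, rfl⟩ := LinearMap.surjective_of_injective hinj z
  have h1 := h x y w
  rw [hx, hy, hs1, hs2] at h1
  rw [LinearMap.add_apply, LinearMap.smul_apply, Module.End.one_apply, ha3, hs3]
  linear_combination h1

end Ops

/-! ### the trilinear form of the 27-dimensional module -/

section Form

variable {R : Type*} [CommRing R]

/-- the trilinear form -/
def T (x y z : I27 → R) : R := tf (cr x y) z

end Form

section FormField

open Cfsg.Agent.H952.F4.Jord

universe u

variable {R : Type u} [CommRing R]

theorem T_add1 (x x' y z : I27 → R) : T (x + x') y z = T x y z + T x' y z := by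
  unfold T; rw [cr_add_left, tf_add_left]

theorem T_add2 (x y y' z : I27 → R) : T x (y + y') z = T x y z + T x y' z := by
  unfold T; rw [cr_add_right, tf_add_left]

theorem T_add3 (x y z z' : I27 → R) : T x y (z + z') = T x y z + T x y z' := by
  unfold T; rw [tf_add_right]

theorem T_smul1 (c : R) (x y z : I27 → R) : T (c • x) y z = c * T x y z := by
  unfold T; rw [cr_smul_left, tf_smul_left]

theorem T_smul2 (c : R) (x y z : I27 → R) : T x (c • y) z = c * T x y z := by
  unfold T; rw [cr_smul_right, tf_smul_left]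

theorem T_smul3 (c : R) (x y z : I27 → R) : T x y (c • z) = c * T x y z := by
  unfold T; rw [tf_smul_right]

theorem T_zero1 (y z : I27 → R) : T 0 y z = 0 := by
  have h := T_smul1 0 0 y z
  rwa [zero_smul, zero_mul] at h

theorem T_zero2 (x z : I27 → R) : T x 0 z = 0 := by
  have h := T_smul2 0 x 0 z
  rwa [zero_smul, zero_mul] at h

theorem T_zero3 (x y : I27 → R) : T x y 0 = 0 := by
  have h := T_smul3 0 x y 0
  rwa [zero_smul, zero_mul] at h

theorem T_comm (x y z : I27 → R) : T x y z = T y x z := by
  unfold T; rw [cr_comm]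

theorem T_comm' (x y z : I27 → R) : T x y z = T x z y := by
  unfold T; rw [cr_comm x y, cr_comm x z, tf_cr y x z, tf_comm, cr_comm]

theorem T_self (x : I27 → R) : T x x x = 6 * cubicT x := by
  unfold T
  rw [cr_self, tf_smul_left, tf_sh_self]
  ring

/-- a subspace on which the form vanishes twice is totally singular -/
theorem ts_of {F : Type u} [Field F] (h2 : (2 : F) ≠ 0) {W : Submodule F (I27 → F)}
    (h : ∀ x ∈ W, ∀ y ∈ W, ∀ z, T x y z = 0) : H163.E6.TS W := by
  have h1 : ∀ x ∈ W, ∀ y ∈ W, cr x y = 0 := fun x hx y hy => tf_nondeg fun z => h x hx y hy z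
  refine ⟨fun x hx => ?_, h1⟩
  have h3 := h1 x hx x hx
  rw [cr_self] at h3
  exact (smul_eq_zero.1 h3).resolve_left h2

end FormField

end Cfsg.Agent.H251.E6
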