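import Mathlib

/-!
# The embeddings of `A_n` into `A_(n+1)` (helper251, S5927)
-/

set_option autoImplicit false

namespace Cfsg.Agent.H251.E6

open Equiv

/-! ### embeddings -/

section Up

variable {n : ℕ}

/-- the natural embedding of `S_n` into `S_(n+1)` -/
def upP (g : Perm (Fin n)) : Perm (Fin (n + 1)) :=
  g.extendDomain (finSuccAboveEquiv (Fin.last n))

theorem upP_mul (g h : Perm (Fin n)) : upP (g * h) = upP g * upP h :=
  (Perm.extendDomain_mul _ g h).symm

/-- the natural embedding of `A_n` into `A_(n+1)` -/
def up : alternatingGroup (Fin n) →* alternatingGroup (Fin (n + 1)) where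
  toFun g := ⟨upP (g : Perm (Fin n)), by
    rw [Perm.mem_alternatingGroup, upP, Perm.sign_extendDomain]
    exact Perm.mem_alternatingGroup.1 g.2⟩
  map_one' := Subtype.ext (Perm.extendDomain_one _)
  map_mul' _ _ := Subtype.ext (upP_mul _ _)

theorem coe_up (g : alternatingGroup (Fin n)) : (up g : Perm (Fin (n + 1))) = upP (g : Perm (Fin n)) := rfl

theorem type_up (g : alternatingGroup (Fin n)) :
    (up g : Perm (Fin (n + 1))).cycleType = (g : Perm (Fin n)).cycleType := by
  rw [coe_up, upP, Perm.cycleType_extendDomain]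

theorem up_last (g : alternatingGroup (Fin n)) : (up g : Perm (Fin (n + 1))) (Fin.last n) = Fin.last n := by
  rw [coe_up, upP, Perm.extendDomain_apply_not_subtype]
  simp

theorem upP_apply (g : Perm (Fin n)) (i : Fin n) : upP g i.castSucc = (g i).castSucc := by
  have hF : ∀ i : Fin n, ((finSuccAboveEquiv (Fin.last n)) i : Fin (n + 1)) = i.castSucc := fun i => by
    rw [finSuccAboveEquiv_apply]
    show (Fin.last n).succAbove i = _
    rw [Fin.succAbove_last]
  have h1 := Perm.extendDomain_apply_image g (finSuccAboveEquiv (Fin.last n)) i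
  rw [hF] at h1
  rw [upP, h1, hF]

end Up

end Cfsg.Agent.H251.E6
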